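import Cfsg.Agent.H34.M24Q.Model
import Cfsg.Agent.Cores.Basic
import Cfsg.Agent.Cores.PCore

/-!
A faithful group of automorphisms of an elementary abelian group of order 64 whose Sylow
2-subgroup acts as the tables say has order dividing 168, and its nontrivial elements of odd order
fix at most four vectors.

The centraliser of the central involution is dihedral of order 8, so S3035 lists the group; an odd
subgroup normalised fixed-point-freely by an element of order 4 is impossible because `1+g+g²+g³`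
vanishes.
-/

set_option autoImplicit false

namespace Cfsg.Agent.H34.M24Q

open Cfsg

/-- a generating pair of one of the two four groups, or of any four group of cosets -/
abbrev Four (p q : Fin 8) : Prop :=
  p ≠ 0 ∧ q ≠ 0 ∧ p ≠ q ∧ rm p p = 0 ∧ rm q q = 0 ∧ rm p q = rm q p

/-- displacements of a coset -/
def imF (d : Fin 8) : Finset (Fin 64) := Finset.univ.image (disp d)

/-- displacements common to the three involutions of a four group -/
def commonF (p q : Fin 8) : Finset (Fin 64) := imF p ∩ imF q ∩ imF (rm p q)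

theorem act_injective : ∀ a b, (∀ v, act a v = act b v) → a = b := by decide +kernel

theorem zSet_disp_five : ∀ v ∈ zSet, ∃ w, disp 5 w = v := by decide +kernel

theorem central_five : ∀ d p q, rm d p = rm p d → rm d q = rm q d → rm p q ≠ rm q p →
    d = 0 ∨ d = 5 := by decide +kernel

theorem four_distinct : ∀ p q, Four p q → ¬ imF q ⊆ imF p := by decide +kernel

theorem card_imF : ∀ p, p ≠ 0 → rm p p = 0 → (imF p).card = 4 := by decide +kernel

theorem commonF_card : ∀ p q, Four p q → (commonF p q).card = 2 := by decide +kernel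

theorem commonF_disjoint : ∀ p q, rm p q ≠ rm q p → rm p p = 0 → rm q q = 0 →
    commonF 5 p ∩ commonF 5 q = {0} := by decide +kernel

theorem four_quad : ∀ p q, Four p q → ∀ v, act q (disp p v) = disp p v ∧
    act p (disp p v) = disp p v ∧ act p (disp q v) = disp q v ∧ act q (disp q v) = disp q v := by
  decide +kernel

theorem disp_mul : ∀ p q v, disp (rm p q) v = vadd (disp p v) (act p (disp q v)) := by decide +kernel

theorem vadd_facts : ∀ v w : Fin 64, vadd v v = 0 ∧ vadd v 0 = v ∧ vadd v w = vadd w v := by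
  decide +kernel

theorem rm_idem : ∀ d, rm d d = d → d = 0 := by decide +kernel

theorem fourOne_split : ∀ d, d ≠ 0 → d ≠ 5 → rm d d = 0 →
    (d = 1 ∨ d = 7) ∨ (d = 3 ∨ d = 4) := by decide +kernel

theorem fourOne_facts : rm 1 5 = 7 ∧ rm 7 5 = 1 ∧ rm 3 5 = 4 ∧ rm 4 5 = 3 := by decide +kernel

theorem fixPair_one : ∀ v, (act 7 v = v ∧ act 5 v = v) ↔ (act 1 v = v ∧ act 5 v = v) := by
  decide +kernel

theorem fixPair_two : ∀ v, (act 4 v = v ∧ act 5 v = v) ↔ (act 3 v = v ∧ act 5 v = v) := by
  decide +kernel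

theorem zSet_gen : vadd 8 1 = 9 ∧ (0 : Fin 64) ∈ zSet := by decide +kernel

theorem act_add : ∀ d v w, act d (vadd v w) = vadd (act d v) (act d w) := by decide +kernel

/-- six-bit coordinates for an action with the given Sylow subgroup -/
structure Act (F V : Type*) [Group F] [CommGroup V] [MulDistribMulAction F V] where
  /-- the embedded cosets -/
  iota : Fin 8 → F
  iota_mul : ∀ a b, iota (rm a b) = iota a * iota b
  /-- the coordinates -/
  alpha : V → Fin 64
  alpha_bijective : Function.Bijective alpha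
  alpha_mul : ∀ v w, alpha (v * w) = vadd (alpha v) (alpha w)
  conj : ∀ d v, alpha (iota d • v) = act d (alpha v)

namespace Act

variable {F V : Type*} [Group F] [CommGroup V] [MulDistribMulAction F V] (D : Act F V)
include D

theorem alpha_one : D.alpha 1 = 0 := by
  have := D.alpha_mul 1 1
  rwa [mul_one, (vadd_facts _ 0).1] at this

theorem sq (v : V) : v * v = 1 :=
  D.alpha_bijective.1 (by rw [D.alpha_mul, (vadd_facts _ 0).1, D.alpha_one])

theorem inv_eq (v : V) : v⁻¹ = v := inv_eq_of_mul_eq_one_right (D.sq v)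

theorem iota_zero : D.iota 0 = 1 := by
  have := D.iota_mul 0 0
  rwa [(rm_zero 0).1, left_eq_mul] at this

theorem smul_eq_iff (d : Fin 8) (v : V) : D.iota d • v = v ↔ act d (D.alpha v) = D.alpha v := by
  rw [← D.conj]
  exact ⟨fun h => by rw [h], fun h => D.alpha_bijective.1 h⟩

theorem alpha_disp (d : Fin 8) (v : V) : D.alpha (v * D.iota d • v) = disp d (D.alpha v) := by
  rw [D.alpha_mul, D.conj, disp]

theorem iota_injective : Function.Injective D.iota := fun a b h =>
  act_injective a b fun w => by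
    obtain ⟨v, rfl⟩ := D.alpha_bijective.2 w
    rw [← D.conj, ← D.conj, h]

/-- the Sylow subgroup as a homomorphism from the dihedral group -/
noncomputable def rho : DihedralGroup 4 →* F :=
  MonoidHom.mk' (fun a => D.iota (ofDihedral a)) fun a b => by rw [ofDihedral_mul, D.iota_mul]

theorem rho_injective : Function.Injective D.rho := fun a b h =>
  ofDihedral_injective a b (D.iota_injective h)

/-- the Sylow subgroup -/
noncomputable def R : Subgroup F := D.rho.range

theorem mem_R {x : F} : x ∈ D.R ↔ ∃ d, D.iota d = x := by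
  constructor
  · rintro ⟨a, rfl⟩; exact ⟨_, rfl⟩
  · rintro ⟨d, rfl⟩
    obtain ⟨a, rfl⟩ := ofDihedral_surjective d
    exact ⟨a, rfl⟩

theorem card_R : Nat.card ↥D.R = 8 := by
  rw [R, ← Nat.card_congr (MonoidHom.ofInjective D.rho_injective).toEquiv, Nat.card_eq_fintype_card,
    DihedralGroup.card]

theorem rm_comm_iff (a b : Fin 8) :
    rm a b = rm b a ↔ D.iota a * D.iota b = D.iota b * D.iota a := by
  rw [← D.iota_mul, ← D.iota_mul]
  exact ⟨fun h => by rw [h], fun h => D.iota_injective h⟩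

theorem sq_iota {d : Fin 8} (h : D.iota d * D.iota d = 1) : rm d d = 0 :=
  D.iota_injective (by rw [D.iota_mul, h, D.iota_zero])

theorem R_two : IsPGroup 2 ↥D.R := by
  haveI : Fact (Nat.Prime 2) := ⟨Nat.prime_two⟩
  exact IsPGroup.of_card (n := 3) (by rw [D.card_R]; norm_num)

variable [Finite F]

/-- a 2-subgroup is conjugate into `R` -/
theorem conj_into (hmax : ¬ 16 ∣ Nat.card F) {P : Subgroup F} (hP : IsPGroup 2 P) :
    ∃ x : F, ∀ g ∈ P, ∃ d, D.iota d = x * g * x⁻¹ := by
  haveI : Fact (Nat.Prime 2) := ⟨Nat.prime_two⟩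
  obtain ⟨T, hT⟩ := hP.exists_le_sylow
  obtain ⟨T₂, hT₂⟩ := D.R_two.exists_le_sylow
  have hR : D.R = (T₂ : Subgroup F) := by
    refine Subgroup.eq_of_le_of_card_ge hT₂ ?_
    obtain ⟨n, hn⟩ := IsPGroup.iff_card.1 T₂.isPGroup'
    rw [D.card_R, hn]
    by_contra h
    push Not at h
    refine hmax (dvd_trans ?_ (hn ▸ Subgroup.card_subgroup_dvd_card (T₂ : Subgroup F)))
    exact (show (16 : ℕ) = 2 ^ 4 by norm_num) ▸ pow_dvd_pow 2 (by
      by_contra hn4
      have := Nat.pow_le_pow_right (show 0 < 2 by norm_num) (show n ≤ 3 by omega)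
      omega)
  obtain ⟨x, hx⟩ := MulAction.exists_smul_eq F T T₂
  refine ⟨x, fun g hg => D.mem_R.1 ?_⟩
  rw [hR, ← hx, Sylow.coe_subgroup_smul]
  exact ⟨g, hT hg, rfl⟩

theorem sum_four_smul (hmax : ¬ 16 ∣ Nat.card F) {g : F} (hg : g ^ 4 = 1) (v : V) :
    v * g • v * ((g * g) • v * (g * g * g) • v) = 1 := by
  have hP : IsPGroup 2 (Subgroup.zpowers g) := by
    rintro ⟨y, hy⟩
    obtain ⟨i, rfl⟩ := Subgroup.mem_zpowers_iff.1 hy
    refine ⟨2, Subtype.ext ?_⟩
    show (g ^ i) ^ (2 ^ 2) = 1
    rw [← zpow_natCast, ← zpow_mul, mul_comm, zpow_mul]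
    norm_num [hg]
  obtain ⟨x, hx⟩ := D.conj_into hmax hP
  obtain ⟨d, hd⟩ := hx g (Subgroup.mem_zpowers g)
  have hgd : g = x⁻¹ * D.iota d * x := by rw [hd]; group
  set w := x • v
  have key : w * D.iota d • w * (D.iota d • D.iota d • w * D.iota d • D.iota d • D.iota d • w) = 1 :=
    D.alpha_bijective.1 (by
      rw [D.alpha_mul, D.alpha_mul, D.alpha_mul, D.conj, D.conj, D.conj, D.conj, D.conj, D.conj,
        D.alpha_one, sum_four])
  have := congrArg (fun z => x⁻¹ • z) key
  simp only [smul_mul', smul_one, w] at this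
  rw [hgd]
  simpa [mul_smul] using this

/-- no odd subgroup is normalised fixed-point-freely by an element of order dividing 4 -/
theorem eq_bot_of_fpf [FaithfulSMul F V] (hmax : ¬ 16 ∣ Nat.card F) {E : Subgroup F}
    (hE : Odd (Nat.card E)) {g : F} (hg : g ^ 4 = 1) (hn : ∀ e ∈ E, g * e * g⁻¹ ∈ E)
    (hfix : ∀ e ∈ E, g * g * e * (g * g)⁻¹ = e → e = 1) : E = ⊥ := by
  classical
  haveI : Fintype E := Fintype.ofFinite E
  let N : V → V := fun w => ∏ e : E, (e : F) • w
  have hNfix : ∀ w, ∀ e' : E, (e' : F) • N w = N w := by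
    intro w e'
    simp only [N]
    rw [Finset.smul_prod']
    exact Fintype.prod_equiv (Equiv.mulLeft e') _ _ fun e => by
      simp only [Equiv.coe_mulLeft, Subgroup.coe_mul, mul_smul]
  have hpow : ∀ (h : F), (∀ e ∈ E, h * e * h⁻¹ ∈ E) → (∀ e ∈ E, h * e * h⁻¹ = e → e = 1) →
      ∀ w, (∏ e : E, ((e : F) * h * (e : F)⁻¹) • w) = N (h • w) := by
    intro h hh hf w
    let σ : E → E := fun e => ⟨e * (h * (e : F)⁻¹ * h⁻¹), mul_mem e.2 (hh _ (inv_mem e.2))⟩
    have hσ : Function.Bijective σ := by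
      refine (Finite.injective_iff_bijective).1 fun a b hab => ?_
      have h1 : (a : F) * (h * (a : F)⁻¹ * h⁻¹) = b * (h * (b : F)⁻¹ * h⁻¹) :=
        congrArg Subtype.val hab
      have h2 : h * ((b : F)⁻¹ * a) * h⁻¹ = (b : F)⁻¹ * a := by
        calc h * ((b : F)⁻¹ * a) * h⁻¹ = (b : F)⁻¹ * (b * (h * (b : F)⁻¹ * h⁻¹)) * (h * a * h⁻¹) := by
              group
          _ = _ := by rw [← h1]; group
      exact Subtype.ext (inv_mul_eq_one.1 (hf _ (mul_mem (inv_mem b.2) a.2) h2)).symm
    refine Fintype.prod_bijective σ hσ _ _ fun e => ?_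
    rw [← mul_smul]
    congr 1
    simp only [σ]; group
  have hn' : ∀ k : ℕ, ∀ e ∈ E, g ^ k * e * (g ^ k)⁻¹ ∈ E := by
    intro k
    induction k with
    | zero => intro e he; simpa using he
    | succ k ih =>
      intro e he
      rw [show g ^ (k + 1) * e * (g ^ (k + 1))⁻¹ = g * (g ^ k * e * (g ^ k)⁻¹) * g⁻¹ by group]
      exact hn _ (ih e he)
  have hg1 : ∀ e ∈ E, g * e * g⁻¹ = e → e = 1 := fun e he h => hfix e he (by
    rw [show g * g * e * (g * g)⁻¹ = g * (g * e * g⁻¹) * g⁻¹ by group, h, h])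
  have hg3 : ∀ e ∈ E, g * g * g * e * (g * g * g)⁻¹ = e → e = 1 := fun e he h => hg1 e he (by
    have h4 : g * g * g * g = 1 := by rw [← hg]; simp [pow_succ, mul_assoc]
    rw [eq_inv_of_mul_eq_one_left h4, inv_inv] at h
    calc g * e * g⁻¹ = g * (g⁻¹ * e * g) * g⁻¹ := by rw [h]
      _ = e := by group)
  have hall : ∀ v : V, v * N (g • v) * (N ((g * g) • v) * N ((g * g * g) • v)) = 1 := by
    intro v
    rw [← hpow g hn hg1, ← hpow (g * g) (by simpa [pow_two] using hn' 2) hfix,
      ← hpow (g * g * g) (by simpa [pow_succ, pow_two] using hn' 3) hg3]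
    have hv : (∏ _e : E, v) = v := by
      rw [Finset.prod_const, Finset.card_univ, ← Nat.card_eq_fintype_card]
      obtain ⟨j, hj⟩ := hE
      rw [hj, pow_succ, pow_mul, pow_two, D.sq, one_pow, one_mul]
    conv_lhs => arg 1; arg 1; rw [← hv]
    rw [← Finset.prod_mul_distrib, ← Finset.prod_mul_distrib, ← Finset.prod_mul_distrib]
    refine Finset.prod_eq_one fun e _ => ?_
    have := congrArg (fun z => (e : F) • z) (D.sum_four_smul hmax hg ((e : F)⁻¹ • v))
    simp only [smul_mul', smul_one] at this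
    simpa [mul_smul] using this
  refine (Subgroup.eq_bot_iff_forall E).2 fun e he => FaithfulSMul.eq_of_smul_eq_smul fun v : V => ?_
  have hv := hall v
  rw [mul_assoc, mul_eq_one_iff_eq_inv] at hv
  rw [one_smul, hv, smul_inv', smul_mul', smul_mul', hNfix _ ⟨e, he⟩, hNfix _ ⟨e, he⟩,
    hNfix _ ⟨e, he⟩]

/-- elements stabilising the series through the fixed vectors of the central involution -/
def stabU : Subgroup F where
  carrier := {x | x * D.iota 5 = D.iota 5 * x ∧ (∀ v, D.alpha v ∈ zSet → x • v = v) ∧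
    (∀ v, D.iota 5 • v = v → D.alpha (v * x • v) ∈ zSet) ∧
    ∀ v, D.iota 5 • (v * x • v) = v * x • v}
  one_mem' := ⟨by simp, fun v _ => one_smul F v,
    fun v _ => by rw [one_smul, D.sq, D.alpha_one]; exact zSet_gen.2,
    fun v => by rw [one_smul, D.sq, smul_one]⟩
  mul_mem' := by
    rintro x y ⟨hx, hxZ, hxC, hxA⟩ ⟨hy, hyZ, hyC, hyA⟩
    have key : ∀ v : V, v * (x * y) • v = (v * x • v) * x • (v * y • v) := fun v => by
      rw [smul_mul', ← mul_smul, mul_assoc, ← mul_assoc (x • v) (x • v), D.sq, one_mul]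
    refine ⟨by rw [mul_assoc, hy, ← mul_assoc, hx, mul_assoc],
      fun v hv => by rw [mul_smul, hyZ v hv, hxZ v hv], fun v hv => ?_, fun v => ?_⟩
    · rw [key, hxZ _ (hyC v hv), D.alpha_mul]
      refine (mem_zSet_iff _).2 fun d => ?_
      rw [act_add, (mem_zSet_iff _).1 (hxC v hv) d, (mem_zSet_iff _).1 (hyC v hv) d]
    · rw [key, smul_mul', hxA v, ← mul_smul, ← hx, mul_smul, hyA v]
  inv_mem' := by
    rintro x ⟨hx, hxZ, hxC, hxA⟩
    have hxi : x⁻¹ * D.iota 5 = D.iota 5 * x⁻¹ := (show Commute x (D.iota 5) from hx).inv_left.eq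
    have key : ∀ v : V, v * x⁻¹ • v = (x⁻¹ • v) * x • (x⁻¹ • v) := fun v => by
      rw [smul_inv_smul, mul_comm]
    refine ⟨hxi, fun v hv => by rw [inv_smul_eq_iff, hxZ v hv], fun v hv => ?_, fun v => ?_⟩
    · rw [key]
      exact hxC _ (by rw [← mul_smul, ← hxi, mul_smul, hv])
    · rw [key]; exact hxA _

theorem R_le_stabU : D.R ≤ D.stabU := by
  intro x hx
  obtain ⟨d, rfl⟩ := D.mem_R.1 hx
  refine ⟨((D.rm_comm_iff 5 d).1 (five_central d)).symm,
    fun v hv => (D.smul_eq_iff d v).2 ((mem_zSet_iff _).1 hv d), fun v hv => ?_, fun v => ?_⟩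
  · rw [D.alpha_disp]; exact disp_of_fix_five _ _ ((D.smul_eq_iff 5 v).1 hv)
  · rw [D.smul_eq_iff, D.alpha_disp]; exact disp_fix_five _ _

theorem stab_step (x : F) (v : V) (hfix : x • (v * x • v) = v * x • v) (ho : Odd (orderOf x)) :
    x • v = v := by
  set c := v * x • v with hc
  have hxv : x • v = v * c := by rw [hc, ← mul_assoc, D.sq, one_mul]
  have key : ∀ n : ℕ, x ^ n • v = v * c ^ n := by
    intro n
    induction n with
    | zero => simp
    | succ n ih => rw [pow_succ', mul_smul, ih, smul_mul', smul_pow', hfix, hxv, pow_succ',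
        mul_assoc]
  have h1 := key (orderOf x)
  rw [pow_orderOf_eq_one, one_smul] at h1
  obtain ⟨j, hj⟩ := ho
  rw [hj, pow_succ, pow_mul, pow_two, D.sq, one_pow, one_mul, left_eq_mul] at h1
  rw [hxv, h1, mul_one]

theorem stabU_odd [FaithfulSMul F V] {x : F} (hx : x ∈ D.stabU) (ho : Odd (orderOf x)) : x = 1 := by
  obtain ⟨-, hxZ, hxC, hxA⟩ := hx
  have hfixC : ∀ v : V, D.iota 5 • v = v → x • v = v := fun v hv =>
    D.stab_step x v (hxZ _ (hxC v hv)) ho
  exact FaithfulSMul.eq_of_smul_eq_smul fun v : V => by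
    rw [one_smul]; exact D.stab_step x v (hfixC _ (hxA v)) ho

omit D in
theorem isPGroup_of_odd_trivial {K : Subgroup F} (h : ∀ x ∈ K, Odd (orderOf x) → x = 1) :
    IsPGroup 2 K := by
  rintro ⟨x, hx⟩
  obtain ⟨m, q, hq, he⟩ := Nat.exists_eq_pow_mul_and_not_dvd (orderOf_pos x).ne' 2 (by norm_num)
  refine ⟨m, Subtype.ext (h (x ^ 2 ^ m) (pow_mem hx _) ?_)⟩
  rw [orderOf_pow, he, Nat.gcd_eq_right (dvd_mul_right _ _),
    Nat.mul_div_cancel_left _ (by positivity)]
  exact Nat.odd_iff.2 (by omega)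

theorem stabU_eq [FaithfulSMul F V] (hmax : ¬ 16 ∣ Nat.card F) : D.stabU = D.R := by
  obtain ⟨x, hx⟩ := D.conj_into hmax (isPGroup_of_odd_trivial fun y hy ho => D.stabU_odd hy ho)
  refine (Subgroup.eq_of_le_of_card_ge D.R_le_stabU ?_).symm
  refine le_trans (le_of_eq ?_) (Subgroup.card_le_of_le
    (show D.stabU.map (MulAut.conj x).toMonoidHom ≤ D.R by
      rintro _ ⟨g, hg, rfl⟩
      exact D.mem_R.2 (hx g hg)))
  rw [Subgroup.card_map_of_injective (MulAut.conj x).injective]

/-- the centraliser of the central involution is the Sylow subgroup -/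
theorem centralizer_five [FaithfulSMul F V] (hmax : ¬ 16 ∣ Nat.card F) :
    Subgroup.centralizer ({D.iota 5} : Set F) = D.R := by
  refine le_antisymm ?_ fun x hx => by
    obtain ⟨d, rfl⟩ := D.mem_R.1 hx
    exact Subgroup.mem_centralizer_singleton_iff.2 ((D.rm_comm_iff d 5).1 (five_central d).symm)
  have hodd : ∀ n ∈ Subgroup.centralizer ({D.iota 5} : Set F), Odd (orderOf n) → n = 1 := by
    intro n hn ho
    have hnu : n * D.iota 5 = D.iota 5 * n := Subgroup.mem_centralizer_singleton_iff.1 hn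
    have hnC : ∀ v : V, D.iota 5 • v = v → D.iota 5 • (n • v) = n • v := fun v hv => by
      rw [← mul_smul, ← hnu, mul_smul, hv]
    have hnZ : ∀ v, D.alpha v ∈ zSet → D.alpha (n • v) ∈ zSet := by
      intro v hv
      obtain ⟨w, hw⟩ := zSet_disp_five _ hv
      obtain ⟨w, rfl⟩ := D.alpha_bijective.2 w
      rw [← D.alpha_disp] at hw
      rw [← D.alpha_bijective.1 hw, smul_mul', ← mul_smul, hnu, mul_smul, D.alpha_disp]
      exact disp_five_mem _
    -- conjugation preserves the stabiliser of the series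
    have hpres : ∀ x ∈ D.stabU, n * x * n⁻¹ ∈ D.stabU := by
      rintro x ⟨hx, hxZ, hxC, hxA⟩
      have hni : n⁻¹ * D.iota 5 = D.iota 5 * n⁻¹ := (show Commute n _ from hnu).inv_left.eq
      have hniC : ∀ v : V, D.iota 5 • v = v → D.iota 5 • (n⁻¹ • v) = n⁻¹ • v := fun v hv => by
        rw [← mul_smul, ← hni, mul_smul, hv]
      have hniZ : ∀ v, D.alpha v ∈ zSet → D.alpha (n⁻¹ • v) ∈ zSet := by
        intro v hv
        obtain ⟨w, hw⟩ := zSet_disp_five _ hv
        obtain ⟨w, rfl⟩ := D.alpha_bijective.2 w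
        rw [← D.alpha_disp] at hw
        rw [← D.alpha_bijective.1 hw, smul_mul', ← mul_smul, hni, mul_smul, D.alpha_disp]
        exact disp_five_mem _
      have key : ∀ v : V, v * (n * x * n⁻¹) • v = n • ((n⁻¹ • v) * x • (n⁻¹ • v)) := fun v => by
        rw [smul_mul', smul_inv_smul, mul_smul, mul_smul]
      refine ⟨(((show Commute n _ from hnu).mul_left hx).mul_left hni).eq,
        fun v hv => ?_, fun v hv => ?_, fun v => ?_⟩
      · rw [mul_smul, mul_smul, hxZ _ (hniZ v hv), smul_inv_smul]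
      · rw [key]; exact hnZ _ (hxC _ (hniC v hv))
      · rw [key]; exact hnC _ (hxA _)
    rw [D.stabU_eq hmax] at hpres
    have hσ : ∀ d, ∃ d', D.iota d' = n * D.iota d * n⁻¹ := fun d =>
      D.mem_R.1 (hpres _ (D.mem_R.2 ⟨d, rfl⟩))
    choose σ hσ using hσ
    have hσm : ∀ a b, σ (rm a b) = rm (σ a) (σ b) := fun a b => D.iota_injective (by
      rw [D.iota_mul, hσ, hσ, hσ, D.iota_mul]; group)
    have hσ5 : σ 5 = 5 := D.iota_injective (by rw [hσ, hnu, mul_inv_cancel_right])
    have hσ0 : σ 0 = 0 := D.iota_injective (by rw [hσ, D.iota_zero]; group)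
    have hσi : Function.Injective σ := fun a b h => D.iota_injective (by
      have := hσ a
      rw [h, hσ b] at this
      exact mul_left_cancel (mul_right_cancel this.symm))
    have hinv : ∀ d, d ≠ 0 → d ≠ 5 → rm d d = 0 → σ d ≠ 0 ∧ σ d ≠ 5 ∧ rm (σ d) (σ d) = 0 :=
      fun d h0 h5 hd => ⟨fun h => h0 (hσi (h.trans hσ0.symm)),
        fun h => h5 (hσi (h.trans hσ5.symm)), by rw [← hσm, hd, hσ0]⟩
    have h7 : ∀ d, σ (rm d 5) = rm (σ d) 5 := fun d => by rw [hσm, hσ5]
    obtain ⟨r15, r75, r35, r45⟩ := fourOne_facts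
    -- `σ` fixes each of the two four groups
    have hV : σ 1 = 1 ∨ σ 1 = 7 := by
      obtain ⟨h10, h15, h11⟩ := hinv 1 (by decide) (by decide) five_sq.2.2.1
      rcases fourOne_split _ h10 h15 h11 with h | h
      · exact h
      exfalso
      obtain ⟨h30, h35, h33⟩ := hinv 3 (by decide) (by decide) five_sq.2.2.2
      have h3 : σ 3 = 1 ∨ σ 3 = 7 := by
        rcases fourOne_split _ h30 h35 h33 with h' | h'
        · exact h'
        · exfalso
          have : rm 1 3 = rm 3 1 := hσi (by
            rw [hσm, hσm]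
            rcases h with h | h <;> rcases h' with h' | h' <;> rw [h, h'] <;> decide +kernel)
          exact absurd this (by decide +kernel)
      let P : Fin 8 → Prop := fun d => d = 1 ∨ d = 7
      let Q : Fin 8 → Prop := fun d => d = 3 ∨ d = 4
      have hPQ : ∀ d, P d → Q (σ d) := by
        rintro d (rfl | rfl)
        · exact h
        · rw [← r15, h7]
          rcases h with h | h <;> rw [h]
          exacts [Or.inr r35, Or.inl r45]
      have hQP : ∀ d, Q d → P (σ d) := by
        rintro d (rfl | rfl)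
        · exact h3
        · rw [← r35, h7]
          rcases h3 with h | h <;> rw [h]
          exacts [Or.inr r15, Or.inl r75]
      have key : ∀ k : ℕ, ∃ d, D.iota d = n ^ k * D.iota 1 * (n ^ k)⁻¹ ∧
          (Even k → P d) ∧ (Odd k → Q d) := by
        intro k
        induction k with
        | zero => exact ⟨1, by simp, fun _ => Or.inl rfl, fun h => absurd h (by simp)⟩
        | succ k ih =>
          obtain ⟨d, hd, hP, hQ⟩ := ih
          refine ⟨σ d, by rw [hσ, hd]; group, fun he => hQP d (hQ ?_), fun ho => hPQ d (hP ?_)⟩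
          · exact Nat.not_even_iff_odd.1 fun he' => by simp [Nat.even_add_one, he'] at he
          · exact Nat.not_odd_iff_even.1 fun ho' => by simp [Nat.odd_add_one, ho'] at ho
      obtain ⟨d, hd, -, hQd⟩ := key (orderOf n)
      rw [pow_orderOf_eq_one, inv_one, mul_one, one_mul] at hd
      have hd1 := D.iota_injective hd
      have := hQd ho
      rw [hd1] at this
      exact absurd this (by decide)
    have h71 : (σ 1 = 1 ∧ σ 7 = 7) ∨ (σ 1 = 7 ∧ σ 7 = 1) := by
      rcases hV with h | h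
      · exact Or.inl ⟨h, by have := h7 1; rwa [r15, h, r15] at this⟩
      · exact Or.inr ⟨h, by have := h7 1; rwa [r15, h, r75] at this⟩
    have h34 : (σ 3 = 3 ∧ σ 4 = 4) ∨ (σ 3 = 4 ∧ σ 4 = 3) := by
      obtain ⟨h30, h35, h33⟩ := hinv 3 (by decide) (by decide) five_sq.2.2.2
      have hne : σ 3 ≠ σ 1 ∧ σ 3 ≠ σ 7 :=
        ⟨fun h => absurd (hσi h) (by decide), fun h => absurd (hσi h) (by decide)⟩
      rcases fourOne_split _ h30 h35 h33 with (h | h) | (h | h)
      · rcases h71 with ⟨a, b⟩ | ⟨a, b⟩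
        exacts [absurd (h.trans a.symm) hne.1, absurd (h.trans b.symm) hne.2]
      · rcases h71 with ⟨a, b⟩ | ⟨a, b⟩
        exacts [absurd (h.trans b.symm) hne.2, absurd (h.trans a.symm) hne.1]
      · exact Or.inl ⟨h, by have := h7 3; rwa [r35, h, r35] at this⟩
      · exact Or.inr ⟨h, by have := h7 3; rwa [r35, h, r45] at this⟩
    have hsmul : ∀ (d : Fin 8) (v : V), n • (D.iota d • v) = D.iota (σ d) • (n • v) := fun d v => by
      rw [← mul_smul, ← mul_smul, hσ, inv_mul_cancel_right]
    have hdisp : ∀ d w, (∃ x, disp d x = D.alpha w) → ∃ x, disp (σ d) x = D.alpha (n • w) := by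
      rintro d w ⟨x, hx⟩
      obtain ⟨x, rfl⟩ := D.alpha_bijective.2 x
      refine ⟨D.alpha (n • x), ?_⟩
      rw [← D.alpha_disp] at hx ⊢
      rw [← D.alpha_bijective.1 hx, smul_mul', hsmul]
    obtain ⟨z8, hz8⟩ := D.alpha_bijective.2 8
    obtain ⟨z1, hz1⟩ := D.alpha_bijective.2 1
    have hz8n : n • z8 = z8 := by
      obtain ⟨a1, a5, a7⟩ := (fourOne_inter _).2 (Or.inr hz8)
      have b1 := hdisp 1 z8 a1
      have b5 := hdisp 5 z8 a5
      have b7 := hdisp 7 z8 a7
      rw [hσ5] at b5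
      have hmem : D.alpha (n • z8) = 0 ∨ D.alpha (n • z8) = 8 := by
        refine (fourOne_inter _).1 ?_
        rcases h71 with ⟨e1, e7⟩ | ⟨e1, e7⟩ <;> rw [e1] at b1 <;> rw [e7] at b7
        exacts [⟨b1, b5, b7⟩, ⟨b7, b5, b1⟩]
      rcases hmem with h | h
      · exfalso
        have : n • z8 = n • (1 : V) := by
          rw [smul_one]; exact D.alpha_bijective.1 (h.trans D.alpha_one.symm)
        rw [smul_left_cancel_iff] at this
        rw [this, D.alpha_one] at hz8
        exact absurd hz8 (by decide)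
      · exact D.alpha_bijective.1 (h.trans hz8.symm)
    have hz1n : n • z1 = z1 := by
      obtain ⟨a3, a5, a4⟩ := (fourTwo_inter _).2 (Or.inr hz1)
      have b3 := hdisp 3 z1 a3
      have b5 := hdisp 5 z1 a5
      have b4 := hdisp 4 z1 a4
      rw [hσ5] at b5
      have hmem : D.alpha (n • z1) = 0 ∨ D.alpha (n • z1) = 1 := by
        refine (fourTwo_inter _).1 ?_
        rcases h34 with ⟨e3, e4⟩ | ⟨e3, e4⟩ <;> rw [e3] at b3 <;> rw [e4] at b4
        exacts [⟨b3, b5, b4⟩, ⟨b4, b5, b3⟩]
      rcases hmem with h | h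
      · exfalso
        have : n • z1 = n • (1 : V) := by
          rw [smul_one]; exact D.alpha_bijective.1 (h.trans D.alpha_one.symm)
        rw [smul_left_cancel_iff] at this
        rw [this, D.alpha_one] at hz1
        exact absurd hz1 (by decide)
      · exact D.alpha_bijective.1 (h.trans hz1.symm)
    have hZfix : ∀ v, D.alpha v ∈ zSet → n • v = v := by
      intro v hv
      simp only [zSet, List.mem_cons, List.not_mem_nil, or_false] at hv
      rcases hv with h | h | h | h
      · rw [show v = 1 from D.alpha_bijective.1 (h.trans D.alpha_one.symm), smul_one]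
      · rw [show v = z1 from D.alpha_bijective.1 (h.trans hz1.symm), hz1n]
      · rw [show v = z8 from D.alpha_bijective.1 (h.trans hz8.symm), hz8n]
      · rw [show v = z8 * z1 from D.alpha_bijective.1 (h.trans
          (by rw [D.alpha_mul, hz8, hz1, zSet_gen.1])), smul_mul', hz8n, hz1n]
    have hnstab : n ∈ D.stabU := by
      refine ⟨hnu, hZfix, fun v hv => ?_, fun v => ?_⟩
      · obtain ⟨x, ⟨hx1, hx5⟩, hy3, hy5⟩ := fixF_five_split _ ((D.smul_eq_iff 5 v).1 hv)
        obtain ⟨a, rfl⟩ := D.alpha_bijective.2 x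
        rw [← D.alpha_mul] at hy3 hy5
        set b := v * a
        have hvab : v = b * a := by simp only [b]; rw [mul_assoc, D.sq, mul_one]
        have hpair : ∀ (p p' : Fin 8) (c : V), σ p = p ∨ σ p = p' →
            (∀ w, (act p' w = w ∧ act 5 w = w) ↔ (act p w = w ∧ act 5 w = w)) →
            (∀ x y, act p x = x → act 5 x = x → act p y = y → act 5 y = y → x ∉ zSet → y ∉ zSet →
              vadd x y ∈ zSet) →
            act p (D.alpha c) = D.alpha c → act 5 (D.alpha c) = D.alpha c →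
              D.alpha (c * n • c) ∈ zSet := by
          intro p p' c hp hiff hcos hcp hc5
          by_cases hcZ : D.alpha c ∈ zSet
          · rw [hZfix c hcZ, D.sq, D.alpha_one]; exact zSet_gen.2
          have h5 : act 5 (D.alpha (n • c)) = D.alpha (n • c) :=
            (D.smul_eq_iff 5 _).1 (hnC c ((D.smul_eq_iff 5 c).2 hc5))
          have hp' : act (σ p) (D.alpha (n • c)) = D.alpha (n • c) := (D.smul_eq_iff _ _).1 (by
            rw [← hsmul, (D.smul_eq_iff p c).2 hcp])
          have hnp : act p (D.alpha (n • c)) = D.alpha (n • c) := by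
            rcases hp with hp | hp <;> rw [hp] at hp'
            exacts [hp', ((hiff _).1 ⟨hp', h5⟩).1]
          have hncZ : D.alpha (n • c) ∉ zSet := fun hz => hcZ (by
            have h1 := hZfix _ hz
            rw [smul_left_cancel_iff] at h1
            rwa [h1] at hz)
          rw [D.alpha_mul]
          exact hcos _ _ hcp hc5 hnp h5 hcZ hncZ
        have ha := hpair 1 7 a (h71.imp (·.1) (·.1)) fixPair_one fourOne_coset hx1 hx5
        have hb := hpair 3 4 b (h34.imp (·.1) (·.1)) fixPair_two fourTwo_coset hy3 hy5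
        have hva : v * n • v = (b * n • b) * (a * n • a) := by
          rw [hvab, smul_mul', mul_mul_mul_comm]
        rw [hva, D.alpha_mul]
        refine (mem_zSet_iff _).2 fun d => ?_
        rw [act_add, (mem_zSet_iff _).1 ha d, (mem_zSet_iff _).1 hb d]
      · have hc : D.alpha (v * D.iota 5 • v) ∈ zSet := by rw [D.alpha_disp]; exact disp_five_mem _
        have h1 := hZfix _ hc
        rw [smul_mul', ← mul_smul, hnu, mul_smul] at h1
        rw [smul_mul']
        calc D.iota 5 • v * D.iota 5 • n • v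
            = (v * D.iota 5 • v) * v * D.iota 5 • n • v := by
              rw [mul_comm v (D.iota 5 • v), mul_assoc (D.iota 5 • v) v v, D.sq, mul_one]
          _ = (n • v * D.iota 5 • n • v) * v * D.iota 5 • n • v := by rw [h1]
          _ = v * n • v * (D.iota 5 • n • v * D.iota 5 • n • v) := by ac_rfl
          _ = v * n • v := by rw [D.sq, mul_one]
    exact D.stabU_odd hnstab ho
  haveI : Fact (Nat.Prime 2) := ⟨Nat.prime_two⟩
  have hRC : D.R ≤ Subgroup.centralizer ({D.iota 5} : Set F) := fun x hx => by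
    obtain ⟨d, rfl⟩ := D.mem_R.1 hx
    exact Subgroup.mem_centralizer_singleton_iff.2 ((D.rm_comm_iff d 5).1 (five_central d).symm)
  obtain ⟨x, hx⟩ := D.conj_into hmax (isPGroup_of_odd_trivial hodd)
  refine (Subgroup.eq_of_le_of_card_ge hRC ?_).ge
  refine le_trans (le_of_eq ?_) (Subgroup.card_le_of_le
    (show (Subgroup.centralizer ({D.iota 5} : Set F)).map (MulAut.conj x).toMonoidHom ≤ D.R by
      rintro _ ⟨g, hg, rfl⟩
      exact D.mem_R.2 (hx g hg)))
  rw [Subgroup.card_map_of_injective (MulAut.conj x).injective]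

/-- three-elements normalising a four group fix at most four vectors; with the four group, at most
the common displacements -/
theorem four_normalised (hmax : ¬ 16 ∣ Nat.card F) {a b y : F} (ha : a * a = 1) (hb : b * b = 1)
    (hab : a * b = b * a) (ha1 : a ≠ 1) (hne : a ≠ b) (hb1 : b ≠ 1) (hy : y ^ 3 = 1)
    (hya : y * a * y⁻¹ = b) (hyb : y * b * y⁻¹ = a * b) :
    Nat.card {v : V // y • v = v} ≤ 4 := by
  classical
  haveI : Fact (Nat.Prime 2) := ⟨Nat.prime_two⟩
  haveI : Finite V := Finite.of_injective _ D.alpha_bijective.1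
  -- the four group is conjugate into `R`
  let W : Subgroup F :=
    { carrier := {1, a, b, a * b}
      one_mem' := by simp
      mul_mem' := by
        have hba : b * a = a * b := hab.symm
        have e1 : a * (a * b) = b := by rw [← mul_assoc, ha, one_mul]
        have e2 : b * (a * b) = a := by rw [hab, ← mul_assoc, hb, one_mul]
        have e3 : a * b * a = b := by rw [hab, mul_assoc, ha, mul_one]
        have e4 : a * b * b = a := by rw [mul_assoc, hb, mul_one]
        have e5 : a * b * (a * b) = 1 := by rw [← mul_assoc, e3, hb]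
        intro x z hx hz
        simp only [Set.mem_insert_iff, Set.mem_singleton_iff] at hx hz ⊢
        rcases hx with rfl | rfl | rfl | rfl <;> rcases hz with rfl | rfl | rfl | rfl <;>
          simp [ha, hb, hba, e1, e2, e3, e4, e5]
      inv_mem' := by
        intro x hx
        simp only [Set.mem_insert_iff, Set.mem_singleton_iff] at hx ⊢
        rcases hx with rfl | rfl | rfl | rfl <;>
          simp [inv_eq_of_mul_eq_one_right ha, inv_eq_of_mul_eq_one_right hb, hab] }
  have hW : IsPGroup 2 W := by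
    rintro ⟨x, hx⟩
    refine ⟨1, Subtype.ext ?_⟩
    show x ^ 2 ^ 1 = 1
    rw [pow_one, pow_two]
    have hx' : x = 1 ∨ x = a ∨ x = b ∨ x = a * b := hx
    rcases hx' with rfl | rfl | rfl | rfl
    · simp
    · exact ha
    · exact hb
    · rw [← mul_assoc, mul_assoc a b a, ← hab, ← mul_assoc, ha, one_mul, hb]
  obtain ⟨x, hx⟩ := D.conj_into hmax hW
  obtain ⟨p, hp⟩ := hx a (show a ∈ W from Or.inr (Or.inl rfl))
  obtain ⟨q, hq⟩ := hx b (show b ∈ W from Or.inr (Or.inr (Or.inl rfl)))
  have hpq : Four p q := by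
    refine ⟨fun h => ha1 ?_, fun h => hb1 ?_, fun h => hne ?_, D.sq_iota ?_, D.sq_iota ?_,
      (D.rm_comm_iff p q).2 ?_⟩
    · rw [h, D.iota_zero] at hp; exact conj_eq_one_iff.1 hp.symm
    · rw [h, D.iota_zero] at hq; exact conj_eq_one_iff.1 hq.symm
    · rw [h, hq] at hp; exact (mul_left_cancel (mul_right_cancel hp)).symm
    · rw [hp, show x * a * x⁻¹ * (x * a * x⁻¹) = x * (a * a) * x⁻¹ by group, ha]; simp
    · rw [hq, show x * b * x⁻¹ * (x * b * x⁻¹) = x * (b * b) * x⁻¹ by group, hb]; simp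
    · rw [hp, hq, show x * a * x⁻¹ * (x * b * x⁻¹) = x * (a * b) * x⁻¹ by group, hab]; group
  obtain ⟨hp0, hq0, hpq', hpp, hqq, hcomm⟩ := hpq
  -- move to the coordinates of `R`
  set y' := x * y * x⁻¹ with hy'def
  have hy' : y' ^ 3 = 1 := by rw [hy'def, conj_pow, hy]; simp
  have hyp : y' * D.iota p * y'⁻¹ = D.iota q := by
    rw [hp, hq, hy'def, ← hya]; group
  have hyq : y' * D.iota q * y'⁻¹ = D.iota (rm p q) := by
    rw [D.iota_mul, hp, hq, hy'def, show x * a * x⁻¹ * (x * b * x⁻¹) = x * (a * b) * x⁻¹ by group,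
      ← hyb]
    group
  have hcardeq : Nat.card {v : V // y • v = v} = Nat.card {v : V // y' • v = v} :=
    Nat.card_congr
      { toFun := fun v => ⟨x • v.1, by
          show (x * y * x⁻¹) • (x • v.1) = x • v.1
          rw [mul_smul, mul_smul, inv_smul_smul, v.2]⟩
        invFun := fun v => ⟨x⁻¹ • v.1, by
          have h : (x * y * x⁻¹) • v.1 = v.1 := v.2
          rw [mul_smul, mul_smul] at h
          exact (eq_inv_smul_iff.2 h)⟩
        left_inv := fun v => Subtype.ext (inv_smul_smul x v.1)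
        right_inv := fun v => Subtype.ext (smul_inv_smul x v.1) }
  rw [hcardeq]
  have hconj : ∀ (d : Fin 8) (v : V) (e : Fin 8), y' * D.iota d * y'⁻¹ = D.iota e →
      y' • (v * D.iota d • v) = (y' • v) * D.iota e • (y' • v) := fun d v e he => by
    rw [smul_mul', ← mul_smul, ← mul_smul, ← he, inv_mul_cancel_right]
  -- the common fixed vectors
  let X : Subgroup V :=
    { carrier := {v | D.iota p • v = v ∧ D.iota q • v = v}
      one_mem' := ⟨smul_one _, smul_one _⟩
      mul_mem' := fun {a b} ha hb =>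
        ⟨by rw [smul_mul', ha.1, hb.1], by rw [smul_mul', ha.2, hb.2]⟩
      inv_mem' := fun {a} ha => ⟨by rw [smul_inv', ha.1], by rw [smul_inv', ha.2]⟩ }
  let Fy : Subgroup V :=
    { carrier := {v | y' • v = v}
      one_mem' := smul_one _
      mul_mem' := fun {a b} ha hb => by
        show y' • (a * b) = a * b
        rw [smul_mul', ha, hb]
      inv_mem' := fun {a} ha => by show y' • a⁻¹ = a⁻¹; rw [smul_inv', ha] }
  have hXc : Nat.card X = 8 := by
    rw [← card_fix_pair p q hp0 hq0 hpq' hpp hqq hcomm, ← Nat.card_eq_finsetCard]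
    refine Nat.card_congr (Equiv.ofBijective (fun v : X => (⟨D.alpha v.1, by
      simp only [fixF, Finset.mem_inter, Finset.mem_filter, Finset.mem_univ, true_and]
      exact ⟨(D.smul_eq_iff p _).1 v.2.1, (D.smul_eq_iff q _).1 v.2.2⟩⟩ : ↥(fixF p ∩ fixF q))) ⟨?_, ?_⟩)
    · intro u w h; exact Subtype.ext (D.alpha_bijective.1 (congrArg Subtype.val h))
    · rintro ⟨w, hw⟩
      obtain ⟨v, rfl⟩ := D.alpha_bijective.2 w
      simp only [fixF, Finset.mem_inter, Finset.mem_filter, Finset.mem_univ, true_and] at hw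
      exact ⟨⟨v, (D.smul_eq_iff p v).2 hw.1, (D.smul_eq_iff q v).2 hw.2⟩, rfl⟩
  have hXy : ∀ v ∈ X, y' • v ∈ X := by
    rintro v ⟨hvp, hvq⟩
    have h1 : D.iota q • (y' • v) = y' • v := by
      rw [← hyp, ← mul_smul, inv_mul_cancel_right, mul_smul, hvp]
    have h2 : D.iota (rm p q) • (y' • v) = y' • v := by
      rw [← hyq, ← mul_smul, inv_mul_cancel_right, mul_smul, hvq]
    refine ⟨?_, h1⟩
    rw [D.iota_mul, mul_smul, h1] at h2
    exact h2
  have hdX : ∀ v : V, v * D.iota p • v ∈ X ∧ v * D.iota q • v ∈ X := fun v => by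
    obtain ⟨q1, q2, q3, q4⟩ := four_quad p q ⟨hp0, hq0, hpq', hpp, hqq, hcomm⟩ (D.alpha v)
    refine ⟨⟨?_, ?_⟩, ⟨?_, ?_⟩⟩ <;> rw [D.smul_eq_iff, D.alpha_disp] <;> assumption
  -- `y` is nontrivial on `X`
  have hmove : ∃ v ∈ X, y' • v ≠ v := by
    by_contra hh
    push Not at hh
    refine four_distinct p q ⟨hp0, hq0, hpq', hpp, hqq, hcomm⟩ fun w hw => ?_
    obtain ⟨v, -, rfl⟩ := Finset.mem_image.1 hw
    obtain ⟨v, rfl⟩ := D.alpha_bijective.2 v
    refine Finset.mem_image.2 ⟨D.alpha (y'⁻¹ • v), Finset.mem_univ _, ?_⟩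
    rw [← D.alpha_disp, ← D.alpha_disp]
    congr 1
    have h1 := hconj p (y'⁻¹ • v) q hyp
    rw [smul_inv_smul, hh _ (hdX _).1] at h1
    exact h1
  -- counting
  have hdvdX : Nat.card ↥(Fy ⊓ X) = 2 := by
    have hdvd : Nat.card ↥(Fy ⊓ X) ∣ 8 := hXc ▸ Subgroup.card_dvd_of_le inf_le_right
    haveI : Fact (Nat.Prime 3) := ⟨Nat.prime_three⟩
    letI : MulAction ↥(Subgroup.zpowers y') ↥X :=
      { smul := fun g v => ⟨(g : F) • v.1, by
          obtain ⟨i, hi⟩ := Subgroup.mem_zpowers_iff.1 g.2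
          have hk : ∀ k : ℕ, y' ^ k • v.1 ∈ X := by
            intro k
            induction k with
            | zero => rw [pow_zero, one_smul]; exact v.2
            | succ k ih => rw [pow_succ', mul_smul]; exact hXy _ ih
          obtain ⟨k, hk'⟩ := (isOfFinOrder_of_finite y').mem_powers_iff_mem_zpowers.2 g.2
          rw [← show y' ^ k = (g : F) from hk']
          exact hk k⟩
        one_smul := fun v => Subtype.ext (one_smul F v.1)
        mul_smul := fun g h v => Subtype.ext (mul_smul (g : F) (h : F) v.1) }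
    have h3 : IsPGroup 3 (Subgroup.zpowers y') := by
      rintro ⟨g, hg⟩
      obtain ⟨i, rfl⟩ := Subgroup.mem_zpowers_iff.1 hg
      refine ⟨1, Subtype.ext ?_⟩
      show (y' ^ i) ^ (3 ^ 1) = 1
      rw [pow_one, ← zpow_natCast, ← zpow_mul, mul_comm, zpow_mul, zpow_natCast, hy', one_zpow]
    have hmod := h3.card_modEq_card_fixedPoints ↥X
    have hfp : Nat.card (MulAction.fixedPoints ↥(Subgroup.zpowers y') ↥X) = Nat.card ↥(Fy ⊓ X) := by
      refine Nat.card_congr
        { toFun := fun v => ⟨v.1.1, congrArg Subtype.val (v.2 ⟨y', Subgroup.mem_zpowers y'⟩),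
            v.1.2⟩
          invFun := fun v => ⟨⟨v.1, v.2.2⟩, fun g => Subtype.ext ?_⟩
          left_inv := fun _ => rfl
          right_inv := fun _ => rfl }
      obtain ⟨k, hk'⟩ := (isOfFinOrder_of_finite y').mem_powers_iff_mem_zpowers.2 g.2
      show (g : F) • v.1 = v.1
      rw [← show y' ^ k = (g : F) from hk']
      clear hk'
      induction k with
      | zero => simp
      | succ k ih => rw [pow_succ', mul_smul, ih]; exact v.2.1
    rw [hfp, hXc, Nat.ModEq] at hmod
    have hne8 : Nat.card ↥(Fy ⊓ X) ≠ 8 := fun h8 => by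
      obtain ⟨v, hvX, hvy⟩ := hmove
      have := Subgroup.eq_of_le_of_card_ge (inf_le_right : Fy ⊓ X ≤ X) (by rw [h8, hXc])
      exact hvy (this.symm ▸ hvX : v ∈ Fy ⊓ X).1
    have h8' : Nat.card ↥(Fy ⊓ X) ≤ 8 := Nat.le_of_dvd (by norm_num) hdvd
    have hpos : 0 < Nat.card ↥(Fy ⊓ X) := Nat.card_pos
    interval_cases Nat.card ↥(Fy ⊓ X) <;> omega
  let φ : V →* V :=
    MonoidHom.mk' (fun v => v * D.iota p • v) fun u w => by rw [smul_mul', mul_mul_mul_comm]
  have hker : Fy ⊓ φ.ker = Fy ⊓ X := by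
    refine le_antisymm ?_ ?_ <;> intro v hv <;> refine ⟨hv.1, ?_⟩
    · have h1 : D.iota p • v = v := by
        have hv2 : v * D.iota p • v = 1 := hv.2
        calc D.iota p • v = v⁻¹ * (v * D.iota p • v) := by group
          _ = v := by rw [hv2, mul_one, D.inv_eq]
      have h2 := hconj p v q hyp
      have hv2 : v * D.iota p • v = 1 := hv.2
      have hv1 : y' • v = v := hv.1
      rw [hv2, smul_one, hv1] at h2
      refine ⟨h1, ?_⟩
      calc D.iota q • v = v⁻¹ * (v * D.iota q • v) := by group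
        _ = v := by rw [← h2, mul_one, D.inv_eq]
    · show v * D.iota p • v = 1
      rw [hv.2.1, D.sq]
  have hrange : Nat.card φ.range = 4 := by
    rw [← card_imF p hp0 hpp, ← Nat.card_eq_finsetCard]
    refine Nat.card_congr (Equiv.ofBijective (fun w : φ.range => (⟨D.alpha w.1, by
      obtain ⟨v, hv⟩ := w.2
      exact Finset.mem_image.2 ⟨D.alpha v, Finset.mem_univ _, by
        rw [← D.alpha_disp]; exact congrArg D.alpha hv⟩⟩ : ↥(imF p))) ⟨?_, ?_⟩)
    · intro u w h; exact Subtype.ext (D.alpha_bijective.1 (congrArg Subtype.val h))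
    · rintro ⟨w, hw⟩
      obtain ⟨v, -, rfl⟩ := Finset.mem_image.1 hw
      obtain ⟨v, rfl⟩ := D.alpha_bijective.2 v
      exact ⟨⟨φ v, v, rfl⟩, Subtype.ext (D.alpha_disp p v)⟩
  have hproper : Fy.map φ ≠ φ.range := by
    intro heq
    obtain ⟨w, hw⟩ : ∃ w, w ∈ commonF p q ∧ w ≠ 0 := by
      obtain ⟨u, w, hne', he⟩ := Finset.card_eq_two.1 (commonF_card p q ⟨hp0, hq0, hpq', hpp, hqq, hcomm⟩)
      rw [he]
      by_cases hu : u = 0
      · exact ⟨w, by simp, fun h => hne' (hu.trans h.symm)⟩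
      · exact ⟨u, by simp, hu⟩
    obtain ⟨c, hc⟩ := D.alpha_bijective.2 w
    have him : ∀ (d : Fin 8) (v : V), D.alpha v ∈ imF d ↔ ∃ z, v = z * D.iota d • z := by
      intro d v
      constructor
      · intro h
        obtain ⟨z, -, hz⟩ := Finset.mem_image.1 h
        obtain ⟨z, rfl⟩ := D.alpha_bijective.2 z
        exact ⟨z, D.alpha_bijective.1 (by rw [D.alpha_disp, hz])⟩
      · rintro ⟨z, rfl⟩
        exact Finset.mem_image.2 ⟨D.alpha z, Finset.mem_univ _, (D.alpha_disp d z).symm⟩
    rw [← hc] at hw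
    obtain ⟨⟨hcp, hcq, hcr⟩, hc0⟩ : (D.alpha c ∈ imF p ∧ D.alpha c ∈ imF q ∧
        D.alpha c ∈ imF (rm p q)) ∧ D.alpha c ≠ 0 := by
      simpa [commonF, Finset.mem_inter] using hw
    obtain ⟨zp, hzp⟩ := (him p c).1 hcp
    obtain ⟨z, hz, hze⟩ : c ∈ Fy.map φ := by rw [heq]; exact ⟨zp, hzp.symm⟩
    -- `c = [a, z]` with `z` fixed by `y'`
    have hcq' : y' • c = z * D.iota q • z := by
      rw [← hze]
      show y' • (z * D.iota p • z) = _
      rw [hconj p z q hyp, hz]
    have hcr' : y' • y' • c = z * D.iota (rm p q) • z := by rw [hcq', hconj q z _ hyq, hz]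
    have hsum : c * y' • c = y' • y' • c := D.alpha_bijective.1 (by
      obtain ⟨q1, q2, q3, q4⟩ := four_quad p q ⟨hp0, hq0, hpq', hpp, hqq, hcomm⟩ (D.alpha z)
      have hze' : c = z * D.iota p • z := hze.symm
      rw [hcr', D.alpha_mul, hcq', hze', D.alpha_disp, D.alpha_disp, D.alpha_disp, disp_mul, q3])
    -- `y'` fixes `c`
    have hyc : y' • c = c := by
      have hmem : ∀ d e, y' * D.iota d * y'⁻¹ = D.iota e → D.alpha c ∈ imF d →
          D.alpha (y' • c) ∈ imF e := by
        intro d e he h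
        obtain ⟨z, rfl⟩ := (him d c).1 h
        exact (him e _).2 ⟨y' • z, hconj d z e he⟩
      have hyr : y' * D.iota (rm p q) * y'⁻¹ = D.iota p := by
        rw [D.iota_mul, show y' * (D.iota p * D.iota q) * y'⁻¹ =
          (y' * D.iota p * y'⁻¹) * (y' * D.iota q * y'⁻¹) by group, hyp, hyq, ← D.iota_mul]
        congr 1
        revert hp0 hq0 hpq' hpp hqq hcomm
        exact (by decide +kernel : ∀ p q : Fin 8, p ≠ 0 → q ≠ 0 → p ≠ q → rm p p = 0 → rm q q = 0 →
          rm p q = rm q p → rm q (rm p q) = p) p q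
      have h2 : D.alpha (y' • c) ∈ commonF p q := by
        simp only [commonF, Finset.mem_inter]
        exact ⟨⟨hmem _ _ hyr hcr, hmem _ _ hyp hcp⟩, hmem _ _ hyq hcq⟩
      have hyc0 : D.alpha (y' • c) ≠ 0 := fun h => hc0 (by
        have : y' • c = y' • (1 : V) := by
          rw [smul_one]; exact D.alpha_bijective.1 (h.trans D.alpha_one.symm)
        rw [smul_left_cancel_iff] at this
        rw [this, D.alpha_one])
      have h1 : D.alpha c ∈ commonF p q := by
        simp only [commonF, Finset.mem_inter]; exact ⟨⟨hcp, hcq⟩, hcr⟩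
      have h0 : (0 : Fin 64) ∈ commonF p q := by
        have hd0 : ∀ d, (0 : Fin 64) ∈ imF d := fun d =>
          (D.alpha_one ▸ (him d 1).2 ⟨1, by rw [smul_one, mul_one]⟩)
        simp only [commonF, Finset.mem_inter]
        exact ⟨⟨hd0 p, hd0 q⟩, hd0 _⟩
      obtain ⟨u, w, huw, he⟩ := Finset.card_eq_two.1 (commonF_card p q ⟨hp0, hq0, hpq', hpp, hqq, hcomm⟩)
      rw [he, Finset.mem_insert, Finset.mem_singleton] at h0 h1 h2
      refine D.alpha_bijective.1 ?_
      rcases h0 with h0 | h0 <;> rcases h1 with h1 | h1 <;> rcases h2 with h2 | h2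
      all_goals first
        | exact h2.trans h1.symm
        | exact absurd (h1.trans h0.symm) hc0
        | exact absurd (h2.trans h0.symm) hyc0
    rw [hyc, hyc, D.sq] at hsum
    exact hc0 (by rw [← hsum, D.alpha_one])
  have hle : Nat.card ↥(Fy.map φ) ≤ 2 := by
    have hsub : Fy.map φ ≤ φ.range := by rintro _ ⟨v, -, rfl⟩; exact ⟨v, rfl⟩
    have h4 : Nat.card ↥(Fy.map φ) ∣ 4 := hrange ▸ Subgroup.card_dvd_of_le hsub
    have hlt : Nat.card ↥(Fy.map φ) < 4 := by
      by_contra h
      exact hproper (Subgroup.eq_of_le_of_card_ge hsub (by rw [hrange]; omega))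
    interval_cases Nat.card ↥(Fy.map φ) <;> omega
  have hmul : Nat.card ↥(Fy.map φ) * Nat.card ↥(Fy ⊓ φ.ker) = Nat.card Fy := by
    have h1 := Subgroup.card_mul_index (φ.domRestrict Fy).ker
    rw [Subgroup.index_ker, MonoidHom.ker_domRestrict, MonoidHom.domRestrict_range,
      ← Subgroup.inf_subgroupOf_left, Nat.card_congr (Subgroup.subgroupOfEquivOfLe inf_le_left).toEquiv,
      mul_comm] at h1
    exact h1
  rw [hker, hdvdX] at hmul
  calc Nat.card {v : V // y' • v = v} = Nat.card Fy := rfl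
    _ ≤ 4 := by omega

end Act

end Cfsg.Agent.H34.M24Q
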