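import Cfsg.Agent.H34.M24Q.Frame
import Cfsg.Agent.Cores.PCore

/-!
In a finite group with Sylow 2-subgroup isomorphic to that of the Mathieu group of degree 24 modulo
its centre, the abelian subgroup of order 64 is strongly closed.

If `s` outside `A` is conjugate to an element of `A` and `E` is the centraliser of `s` in `A`, some
conjugate `B` of `A` contains `s` and is normalised by `E`; the automizer of `⟨E, s⟩` in the
centraliser of `E ∩ B` then either is a 2-group or has too large a normal 2-subgroup.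
-/

set_option autoImplicit false

namespace Cfsg.Agent.H34.M24Q

open Cfsg Subgroup Cfsg.Agent.H63

theorem disp_two : ∀ r, r ≠ 0 → rm r r = 0 → ∀ c, ∃ w, disp r w ≠ 0 ∧ disp r w ≠ c := by
  decide +kernel

theorem vadd_self : ∀ v, vadd v v = 0 := by decide +kernel

theorem disp_fixed : ∀ r v, rm r r = 0 → act r (disp r v) = disp r v := by decide +kernel

theorem disp_vadd : ∀ r v w, disp r (vadd v w) = vadd (disp r v) (disp r w) := by decide +kernel

variable {G : Type*} [Group G]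

namespace Frame

variable {Q A : Subgroup G} (F : Frame Q A)
include F

theorem alpha_one : F.alpha 1 = 0 := by
  have := F.alpha_mul 1 A.one_mem 1 A.one_mem
  rwa [mul_one, vadd_self] at this

theorem sq {a : G} (ha : a ∈ A) : a * a = 1 :=
  F.alpha_inj _ (mul_mem ha ha) _ A.one_mem (by rw [F.alpha_mul a ha a ha, vadd_self, F.alpha_one])

theorem rho_one : F.rho 1 = 0 := (F.rho_zero 1 Q.one_mem).2 A.one_mem

theorem rho_sq_of {x : G} (hx : x ∈ Q) (h : x * x = 1) : rm (F.rho x) (F.rho x) = 0 := by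
  rw [← F.rho_mul x hx x hx, h, F.rho_one]

theorem commutes_iff {x : G} (hx : x ∈ Q) {a : G} (ha : a ∈ A) :
    x * a = a * x ↔ act (F.rho x) (F.alpha a) = F.alpha a := by
  rw [← F.conj x hx a ha]
  constructor
  · intro h; rw [h, mul_inv_cancel_right]
  · intro h
    exact mul_inv_eq_iff_eq_mul.1 (F.alpha_inj _ (F.conj_mem x hx a ha) a ha h)

theorem mem_of_commutes {x : G} (hx : x ∈ Q) (h : ∀ a ∈ A, x * a = a * x) : x ∈ A := by
  refine (F.rho_zero x hx).1 (act_faithful _ fun v => ?_)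
  obtain ⟨a, ha, rfl⟩ := F.alpha_surj v
  exact (F.commutes_iff hx ha).1 (h a ha)

theorem alpha_disp {x : G} (hx : x ∈ Q) {a : G} (ha : a ∈ A) :
    F.alpha (a * (x * a * x⁻¹)) = disp (F.rho x) (F.alpha a) := by
  rw [F.alpha_mul a ha _ (F.conj_mem x hx a ha), F.conj x hx a ha, disp]

theorem le_normalizer [Finite G] : Q ≤ normalizer (A : Set G) :=
  fun _ hx => mem_normalizer_fintype (F.conj_mem _ hx)

theorem card_eq (K : Subgroup G) (hK : K ≤ A) (S : Finset (Fin 64))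
    (h : ∀ a ∈ A, a ∈ K ↔ F.alpha a ∈ S) : Nat.card K = S.card := by
  rw [← Nat.card_eq_finsetCard]
  refine Nat.card_congr (Equiv.ofBijective
    (fun k => (⟨F.alpha k.1, (h k.1 (hK k.2)).1 k.2⟩ : S)) ⟨?_, ?_⟩)
  · intro a b hab
    exact Subtype.ext (F.alpha_inj _ (hK a.2) _ (hK b.2) (congrArg Subtype.val hab))
  · rintro ⟨v, hv⟩
    obtain ⟨a, ha, rfl⟩ := F.alpha_surj v
    exact ⟨⟨a, (h a ha).2 hv⟩, rfl⟩

theorem card_fix [Finite G] {x : G} (hx : x ∈ Q) :
    Nat.card ↥(A ⊓ centralizer {x}) = (fixF (F.rho x)).card :=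
  F.card_eq _ inf_le_left _ fun a ha => by
    rw [mem_inf, fixF, Finset.mem_filter, mem_centralizer_singleton_iff]
    exact ⟨fun h => ⟨Finset.mem_univ _, (F.commutes_iff hx ha).1 h.2.symm⟩,
      fun h => ⟨ha, ((F.commutes_iff hx ha).2 h.2).symm⟩⟩

end Frame

/-- the subgroup generated by `K` and an involution commuting with it, as a set of two cosets -/
def adjoin (K : Subgroup G) (s : G) (hs : s * s = 1) (hc : ∀ k ∈ K, s * k = k * s) : Subgroup G where
  carrier := {x | x ∈ K ∨ x * s ∈ K}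
  one_mem' := Or.inl K.one_mem
  mul_mem' := by
    rintro x y (hx | hx) (hy | hy)
    · exact Or.inl (mul_mem hx hy)
    · refine Or.inr ?_
      rw [mul_assoc]; exact mul_mem hx hy
    · refine Or.inr ?_
      rw [mul_assoc, ← hc y hy, ← mul_assoc]; exact mul_mem hx hy
    · refine Or.inl ?_
      have h := mul_mem hx hy
      rwa [mul_assoc x s (y * s), hc _ hy, mul_assoc y s s, hs, mul_one] at h
  inv_mem' := by
    rintro x (hx | hx)
    · exact Or.inl (inv_mem hx)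
    · refine Or.inr ?_
      have h := inv_mem hx
      rw [mul_inv_rev, inv_eq_of_mul_eq_one_right hs] at h
      show x⁻¹ * s ∈ K
      have e : x⁻¹ * s = s * (s * x⁻¹) * s := by rw [← mul_assoc, hs, one_mul]
      rw [e, hc _ h, mul_assoc, hs, mul_one]
      exact h

theorem mem_adjoin {K : Subgroup G} {s : G} {hs hc} {x : G} :
    x ∈ adjoin K s hs hc ↔ x ∈ K ∨ x * s ∈ K := Iff.rfl

theorem le_adjoin {K : Subgroup G} {s : G} {hs hc} : K ≤ adjoin K s hs hc := fun _ h => Or.inl h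

theorem self_mem_adjoin {K : Subgroup G} {s : G} {hs hc} : s ∈ adjoin K s hs hc :=
  Or.inr (hs.symm ▸ K.one_mem)

theorem card_adjoin [Finite G] {K : Subgroup G} {s : G} {hs : s * s = 1} {hc} (hsK : s ∉ K) :
    Nat.card ↥(adjoin K s hs hc) = 2 * Nat.card K := by
  classical
  rw [two_mul, ← Nat.card_sum]
  refine (Nat.card_congr (Equiv.ofBijective
    (Sum.elim (fun k : K => (⟨k.1, Or.inl k.2⟩ : ↥(adjoin K s hs hc)))
      (fun k : K => ⟨k.1 * s, Or.inr (by rw [mul_assoc, hs, mul_one]; exact k.2)⟩)) ⟨?_, ?_⟩)).symm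
  · rintro (a | a) (b | b) h <;> have h' := congrArg Subtype.val h
    · exact congrArg Sum.inl (Subtype.ext h')
    · exact absurd (show s ∈ K by
        have : s = b.1⁻¹ * a.1 := by simp only [Sum.elim_inl, Sum.elim_inr] at h'; rw [h']; group
        rw [this]; exact mul_mem (inv_mem b.2) a.2) hsK
    · exact absurd (show s ∈ K by
        have : s = a.1⁻¹ * b.1 := by simp only [Sum.elim_inl, Sum.elim_inr] at h'; rw [← h']; group
        rw [this]; exact mul_mem (inv_mem a.2) b.2) hsK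
    · exact congrArg Sum.inr (Subtype.ext (mul_right_cancel h'))
  · rintro ⟨x, hx | hx⟩
    · exact ⟨Sum.inl ⟨x, hx⟩, rfl⟩
    · exact ⟨Sum.inr ⟨x * s, hx⟩, Subtype.ext (by
        show x * s * s = x; rw [mul_assoc, hs, mul_one])⟩

theorem eq_of_inv_pow_odd [Finite G] {y l c : G} (hy : Odd (orderOf y)) (h : y * l * y⁻¹ = c * l)
    (hfix : y * c * y⁻¹ = c) (hc : c * c = 1) : y * l * y⁻¹ = l := by
  have key : ∀ n : ℕ, y ^ n * l * (y ^ n)⁻¹ = c ^ n * l := by
    intro n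
    induction n with
    | zero => simp
    | succ n ih =>
      calc y ^ (n + 1) * l * (y ^ (n + 1))⁻¹ = y * (y ^ n * l * (y ^ n)⁻¹) * y⁻¹ := by group
        _ = (y * c ^ n * y⁻¹) * (y * l * y⁻¹) := by rw [ih]; group
        _ = c ^ n * (c * l) := by rw [← conj_pow, hfix, h]
        _ = _ := by rw [pow_succ]; group
  have h1 := key (orderOf y)
  obtain ⟨j, hj⟩ := hy
  rw [pow_orderOf_eq_one, hj, pow_succ, pow_mul, pow_two, hc, one_pow, one_mul] at h1
  have h2 : c = 1 := by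
    have : l = c * l := by simpa using h1
    simpa using this.symm
  rw [h, h2, one_mul]

/-- the elements stabilising the series `L ≥ M ≥ E` -/
def stabSeries [Finite G] (L M E : Subgroup G) : Subgroup G where
  carrier := {x | (∀ e ∈ E, x * e = e * x) ∧ (∀ y ∈ M, x * y * x⁻¹ * y⁻¹ ∈ E) ∧
    (∀ l ∈ L, x * l * x⁻¹ * l⁻¹ ∈ M) ∧ E ≤ M} ∪ {1}
  one_mem' := Or.inr rfl
  mul_mem' := by
    intro x y hx hy
    rcases hx with hx | rfl
    swap
    · simpa using hy
    rcases hy with hy | rfl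
    swap
    · rw [mul_one]; exact Or.inl hx
    obtain ⟨hxE, hxM, hxL, hEM⟩ := hx
    obtain ⟨hyE, hyM, hyL, -⟩ := hy
    refine Or.inl ?_
    refine ⟨fun e he => by rw [mul_assoc, hyE e he, ← mul_assoc, hxE e he, mul_assoc],
      fun m hm => ?_, fun l hl => ?_, hEM⟩
    · have hc := hyM m hm
      set c := y * m * y⁻¹ * m⁻¹ with hcdef
      have e : x * y * m * (x * y)⁻¹ * m⁻¹ = (x * c * x⁻¹) * (x * m * x⁻¹ * m⁻¹) := by
        rw [hcdef]; group
      rw [e, hxE c hc, mul_inv_cancel_right]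
      exact mul_mem hc (hxM m hm)
    · have hc := hyL l hl
      set c := y * l * y⁻¹ * l⁻¹ with hcdef
      have e : x * y * l * (x * y)⁻¹ * l⁻¹ = (x * c * x⁻¹ * c⁻¹) * c * (x * l * x⁻¹ * l⁻¹) := by
        rw [hcdef]; group
      rw [e]
      exact mul_mem (mul_mem (hEM (hxM c hc)) hc) (hxL l hl)
  inv_mem' := by
    intro x hx
    rcases hx with hx | rfl
    swap
    · simp
    obtain ⟨hxE, hxM, hxL, hEM⟩ := hx
    refine Or.inl ?_
    have hinvM : ∀ m ∈ M, x⁻¹ * m * x * m⁻¹ ∈ E := by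
      intro m hm
      -- the map `m ↦ x m x⁻¹` is a bijection of the finite group `M`
      have hmem : ∀ u : M, x * u.1 * x⁻¹ ∈ M := fun u => by
        have := mul_mem (hEM (hxM u.1 u.2)) u.2
        rwa [inv_mul_cancel_right] at this
      have hbij : Function.Bijective (fun u : M => (⟨x * u.1 * x⁻¹, hmem u⟩ : M)) :=
        (Finite.injective_iff_bijective).1 fun u w h => Subtype.ext (by
          simpa using congrArg Subtype.val h)
      obtain ⟨u, hu⟩ := hbij.2 ⟨m, hm⟩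
      have hu' : x * u.1 * x⁻¹ = m := congrArg Subtype.val hu
      have := hxM u.1 u.2
      rw [hu'] at this
      have e : x⁻¹ * m * x * m⁻¹ = (m * u.1⁻¹)⁻¹ := by rw [← hu']; group
      rw [e]
      exact inv_mem this
    refine ⟨fun e he => ?_, fun m hm => by rw [inv_inv]; exact hinvM m hm, fun l hl => ?_, hEM⟩
    · calc x⁻¹ * e = x⁻¹ * (e * x) * x⁻¹ := by group
        _ = _ := by rw [← hxE e he]; group
    · rw [inv_inv]
      set c := x * l * x⁻¹ * l⁻¹ with hcdef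
      have hc : c ∈ M := hxL l hl
      have e : x⁻¹ * l * x * l⁻¹ = (x⁻¹ * c * x * c⁻¹ * c)⁻¹ := by rw [hcdef]; group
      rw [e]
      exact inv_mem (mul_mem (hEM (hinvM c hc)) hc)

theorem mem_stabSeries [Finite G] {L M E : Subgroup G} (hEM : E ≤ M) {x : G} :
    x ∈ stabSeries L M E ↔ (∀ e ∈ E, x * e = e * x) ∧ (∀ y ∈ M, x * y * x⁻¹ * y⁻¹ ∈ E) ∧
      (∀ l ∈ L, x * l * x⁻¹ * l⁻¹ ∈ M) := by
  constructor
  · rintro (hx | rfl)
    · exact ⟨hx.1, hx.2.1, hx.2.2.1⟩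
    · simp
  · intro hx
    exact Or.inl ⟨hx.1, hx.2.1, hx.2.2, hEM⟩

theorem stab_centralizes [Finite G] {L M E : Subgroup G} (hEM : E ≤ M) (hM : M ≤ L)
    (hL : ∀ l ∈ L, l * l = 1) {x : G} (hx : x ∈ stabSeries L M E) (ho : Odd (orderOf x))
    {l : G} (hl : l ∈ L) : x * l = l * x := by
  obtain ⟨hE, hM', hL'⟩ := (mem_stabSeries hEM).1 hx
  have hfix : ∀ y ∈ M, x * y * x⁻¹ = y := fun y hy =>
    eq_of_inv_pow_odd ho (c := x * y * x⁻¹ * y⁻¹) (by group)
      (by rw [hE _ (hM' y hy), mul_inv_cancel_right]) (hL _ (hM (hEM (hM' y hy))))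
  have := eq_of_inv_pow_odd ho (l := l) (c := x * l * x⁻¹ * l⁻¹) (by group) (hfix _ (hL' l hl))
    (hL _ (hM (hL' l hl)))
  exact mul_inv_eq_iff_eq_mul.1 this

/-- a normal subgroup acting as a 2-group on a normalised subgroup acts as part of any Sylow
2-subgroup -/
theorem exists_sylow_part [Finite G] {K N : Subgroup G} [K.Normal] [N.Normal]
    (h : ∀ x ∈ N, Odd (orderOf x) → x ∈ K) (P : Sylow 2 G) {x : G} (hx : x ∈ N) :
    ∃ p ∈ (P : Subgroup G), p⁻¹ * x ∈ K := by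
  haveI : Fact (Nat.Prime 2) := ⟨Nat.prime_two⟩
  set f := QuotientGroup.mk' K
  haveI : (N.map f).Normal := Normal.map inferInstance f (QuotientGroup.mk'_surjective K)
  have hN : IsPGroup 2 (N.map f) := by
    rintro ⟨_, y, hy, rfl⟩
    obtain ⟨m, q, hq, he⟩ := Nat.exists_eq_pow_mul_and_not_dvd (orderOf_pos y).ne' 2 (by norm_num)
    refine ⟨m, Subtype.ext ?_⟩
    rw [SubgroupClass.coe_pow, OneMemClass.coe_one, ← map_pow]
    refine (QuotientGroup.eq_one_iff _).2 (h _ (pow_mem hy _) ?_)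
    rw [orderOf_pow, he, Nat.gcd_eq_right (dvd_mul_right _ _),
      Nat.mul_div_cancel_left _ (by positivity)]
    exact Nat.odd_iff.2 (by omega)
  have hle : N.map f ≤ (P : Subgroup G).map f := by
    have := (Cores.le_pCore hN).trans (Cores.pCore_le_sylow (P.mapSurjective
      (QuotientGroup.mk'_surjective K)))
    rwa [Sylow.coe_mapSurjective] at this
  obtain ⟨p, hp, hpe⟩ := hle ⟨x, hx, rfl⟩
  exact ⟨p, hp, (QuotientGroup.eq_one_iff _).1 (by
    rw [QuotientGroup.mk_mul, QuotientGroup.mk_inv]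
    exact inv_mul_eq_one.2 hpe)⟩

/-- the standing hypothesis: the Sylow 2-subgroups are of the given type -/
def TypeQ (G : Type*) [Group G] : Prop :=
  ∃ P : Sylow 2 ↥Cfsg.M24, ∀ S : Sylow 2 G, Nonempty (↥(S : Subgroup G) ≃*
    (↥(P : Subgroup ↥Cfsg.M24) ⧸ Subgroup.center ↥(P : Subgroup ↥Cfsg.M24)))

theorem TypeQ.frame [Finite G] (h : TypeQ G) (S : Sylow 2 G) {A : Subgroup G}
    (hA : A ≤ (S : Subgroup G)) (hAc : IsMulCommutative ↥A) (hA64 : Nat.card ↥A = 64) :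
    Nonempty (Frame (S : Subgroup G) A) := by
  obtain ⟨P, hP⟩ := h
  exact exists_frame P _ A (hP S) hA hAc hA64

theorem TypeQ.unique [Finite G] (h : TypeQ G) (S : Sylow 2 G) {A B : Subgroup G}
    (hA : A ≤ (S : Subgroup G)) (hAc : IsMulCommutative ↥A) (hA64 : Nat.card ↥A = 64)
    (hB : B ≤ (S : Subgroup G)) (hBc : IsMulCommutative ↥B) (hB64 : Nat.card ↥B = 64) :
    A = B := by
  obtain ⟨P, hP⟩ := h
  obtain ⟨e⟩ := hP S
  obtain ⟨φ, hφ, hr⟩ := exists_embedding P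
  have key : ∀ C : Subgroup G, C ≤ (S : Subgroup G) → IsMulCommutative ↥C → Nat.card ↥C = 64 →
      (C.subgroupOf (S : Subgroup G)).map e.toMonoidHom = M24Sylow.Aq φ := by
    intro C hC hCc hC64
    haveI : IsMulCommutative ↥(C.subgroupOf (S : Subgroup G)) :=
      ⟨⟨fun a b => Subtype.ext (Subtype.ext (setLike_mul_comm (s := C) a.2 b.2))⟩⟩
    haveI := Subgroup.map_isMulCommutative (C.subgroupOf (S : Subgroup G)) e.toMonoidHom
    refine IndexEight.unique (M24Sylow.hyp φ hφ hr) _ ?_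
    rw [Subgroup.card_map_of_injective e.injective,
      Nat.card_congr (Subgroup.subgroupOfEquivOfLe hC).toEquiv, hC64]
  have h2 := Subgroup.map_injective e.injective
    ((key A hA hAc hA64).trans (key B hB hBc hB64).symm)
  rw [← map_subgroupOf_eq_of_le hA, ← map_subgroupOf_eq_of_le hB, h2]

/-- a conjugate `B` of `A` containing `s` and normalised by `E = C_A(s)` -/
theorem exists_conjugate [Finite G] {A : Subgroup G} (hAc : IsMulCommutative ↥A)
    (hA2 : IsPGroup 2 A) {a g : G} (ha : a ∈ A) :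
    ∃ c : G, c * a * c⁻¹ = g * a * g⁻¹ ∧ ∃ S : Sylow 2 G,
      A.map (MulAut.conj c).toMonoidHom ≤ (S : Subgroup G) ∧
      A ⊓ centralizer {g * a * g⁻¹} ≤ (S : Subgroup G) := by
  haveI : Fact (Nat.Prime 2) := ⟨Nat.prime_two⟩
  set s := g * a * g⁻¹ with hs
  set H := centralizer ({s} : Set G)
  let B : Subgroup G := A.map (MulAut.conj g).toMonoidHom
  have hBH : B ≤ H := by
    rintro _ ⟨x, hx, rfl⟩
    rw [mem_centralizer_singleton_iff, MulEquiv.coe_toMonoidHom, MulAut.conj_apply, hs,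
      show g * x * g⁻¹ * (g * a * g⁻¹) = g * (x * a) * g⁻¹ by group,
      setLike_mul_comm (s := A) hx ha]
    group
  have hEH : A ⊓ H ≤ H := inf_le_right
  obtain ⟨T₁, hT₁⟩ := ((hA2.map _).of_equiv (subgroupOfEquivOfLe hBH).symm :
    IsPGroup 2 (B.subgroupOf H)).exists_le_sylow
  obtain ⟨T₂, hT₂⟩ := ((hA2.to_le inf_le_left).of_equiv (subgroupOfEquivOfLe hEH).symm :
    IsPGroup 2 ((A ⊓ H).subgroupOf H)).exists_le_sylow
  obtain ⟨k, hk⟩ := MulAction.exists_smul_eq H T₁ T₂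
  obtain ⟨S, hS⟩ := (T₂.isPGroup'.map H.subtype).exists_le_sylow
  refine ⟨k.1 * g, ?_, S, ?_, fun x hx => hS ⟨⟨x, hx.2⟩, hT₂ hx, rfl⟩⟩
  · rw [show k.1 * g * a * (k.1 * g)⁻¹ = k.1 * s * k.1⁻¹ by rw [hs]; group,
      mem_centralizer_singleton_iff.1 k.2, mul_inv_cancel_right]
  · rintro _ ⟨x, hx, rfl⟩
    refine hS ⟨k * ⟨g * x * g⁻¹, hBH ⟨x, hx, rfl⟩⟩ * k⁻¹, ?_, ?_⟩
    · rw [SetLike.mem_coe, ← hk, Sylow.coe_subgroup_smul]
      exact ⟨_, hT₁ ⟨x, hx, rfl⟩, rfl⟩
    · simp [mul_assoc]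

/-- the local configuration: `B` contains `s` and is normalised by `E = C_A(s)` -/
structure Pair (A : Subgroup G) (s : G) where
  /-- the conjugate -/
  B : Subgroup G
  comm : IsMulCommutative ↥B
  card : Nat.card ↥B = 64
  mem : s ∈ B
  /-- a Sylow subgroup -/
  S : Sylow 2 G
  B_le : B ≤ (S : Subgroup G)
  E_le : A ⊓ centralizer {s} ≤ (S : Subgroup G)

/-- `[B, E] ≤ (E ∩ B)⟨s⟩`, and the index of `E ∩ B` in `E` -/
theorem Pair.facts [Finite G] (h : TypeQ G) {A : Subgroup G} (hAc : IsMulCommutative ↥A) {s : G}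
    (hsq : ∀ x ∈ A, x * x = 1) (hE16 : Nat.card ↥(A ⊓ centralizer {s}) = 16) (hsA : s ∉ A)
    (p : Pair A s) :
    (A ⊓ centralizer {s} ≤ p.B ∨ Nat.card ↥(A ⊓ centralizer {s} ⊓ p.B) = 8 ∨
      Nat.card ↥(A ⊓ centralizer {s} ⊓ p.B) = 4) ∧
    ∀ e ∈ A ⊓ centralizer {s}, ∀ b ∈ p.B,
      e * b * e⁻¹ * b⁻¹ ∈ A ⊓ centralizer {s} ⊓ p.B ∨
        e * b * e⁻¹ * b⁻¹ * s ∈ A ⊓ centralizer {s} ⊓ p.B := by
  classical
  obtain ⟨F⟩ := h.frame p.S p.B_le p.comm p.card
  set E := A ⊓ centralizer {s} with hE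
  set E₀ := E ⊓ p.B with hE₀
  haveI := p.comm
  by_cases hEB : E ≤ p.B
  · refine ⟨Or.inl hEB, fun e he b hb => Or.inl ?_⟩
    rw [setLike_mul_comm (s := p.B) (hEB he) hb]
    simp [one_mem]
  obtain ⟨e₁, he₁, he₁B⟩ := SetLike.not_le_iff_exists.1 hEB
  have hs1 : s * s = 1 := F.sq p.mem
  have hEc : ∀ e ∈ E, s * e = e * s := fun e he => (mem_centralizer_singleton_iff.1 he.2).symm
  have hEE : ∀ e ∈ E, ∀ e' ∈ E, e * e' = e' * e := fun e he e' he' =>
    setLike_mul_comm (s := A) he.1 he'.1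
  have hrne : ∀ e ∈ E, e ∉ p.B → F.rho e ≠ 0 := fun e he heB h0 =>
    heB ((F.rho_zero e (p.E_le he)).1 h0)
  have hrsq : ∀ e ∈ E, rm (F.rho e) (F.rho e) = 0 := fun e he =>
    F.rho_sq_of (p.E_le he) (hsq e he.1)
  have hrcomm : ∀ e ∈ E, ∀ e' ∈ E, rm (F.rho e) (F.rho e') = rm (F.rho e') (F.rho e) :=
    fun e he e' he' => by
      rw [← F.rho_mul e (p.E_le he) e' (p.E_le he'), ← F.rho_mul e' (p.E_le he') e (p.E_le he),
        hEE e he e' he']
  -- `[B, E]` is centralised by `E`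
  have hquad : ∀ e ∈ E, ∀ b ∈ p.B, ∀ e' ∈ E,
      e' * (e * b * e⁻¹ * b⁻¹) = (e * b * e⁻¹ * b⁻¹) * e' := by
    intro e he b hb e' he'
    have hc := F.conj_mem e (p.E_le he) b hb
    have hbi : b⁻¹ = b := inv_eq_of_mul_eq_one_right (F.sq hb)
    rw [hbi, setLike_mul_comm (s := p.B) hc hb]
    rw [F.commutes_iff (p.E_le he') (mul_mem hb hc), F.alpha_disp (p.E_le he) hb]
    exact quad _ _ _ (hrsq e he) (hrsq e' he') (hrcomm e he e' he')
  have hcB : ∀ e ∈ E, ∀ b ∈ p.B, e * b * e⁻¹ * b⁻¹ ∈ p.B := fun e he b hb =>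
    mul_mem (F.conj_mem e (p.E_le he) b hb) (inv_mem hb)
  let CB : Subgroup G := p.B ⊓ centralizer (E : Set G)
  let B₀ := adjoin E₀ s hs1 fun e he => hEc e he.1
  have hsE₀ : s ∉ E₀ := fun hh => hsA hh.1.1
  have hB₀ : B₀ ≤ CB := by
    intro x hx
    have key : ∀ y ∈ E₀, y ∈ CB := fun y hy =>
      ⟨hy.2, mem_centralizer_iff.2 fun e he => hEE e he y hy.1⟩
    have hsCB : s ∈ CB :=
      ⟨p.mem, mem_centralizer_iff.2 fun e he => (hEc e he).symm⟩
    rcases mem_adjoin.1 hx with hx | hx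
    · exact key x hx
    · have := mul_mem (key _ hx) hsCB
      rwa [mul_assoc, hs1, mul_one] at this
  suffices hcard : (Nat.card E₀ = 8 ∨ Nat.card E₀ = 4) ∧ Nat.card CB ≤ 2 * Nat.card E₀ by
    refine ⟨Or.inr hcard.1, fun e he b hb => ?_⟩
    have heq : B₀ = CB := Subgroup.eq_of_le_of_card_ge hB₀ (by
      rw [card_adjoin hsE₀]; exact hcard.2)
    have : e * b * e⁻¹ * b⁻¹ ∈ CB :=
      ⟨hcB e he b hb, mem_centralizer_iff.2 fun e' he' => hquad e he b hb e' he'⟩
    rw [← heq] at this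
    exact mem_adjoin.1 this
  have hE₀c : ∀ e ∈ E, ∀ k ∈ E₀, e * k = k * e := fun e he k hk => hEE e he k hk.1
  set E₁ := adjoin E₀ e₁ (hsq e₁ he₁.1) (hE₀c e₁ he₁) with hE₁
  have hE₁le : E₁ ≤ E := fun x hx => by
    rcases mem_adjoin.1 hx with hx | hx
    · exact hx.1
    · have := mul_mem hx.1 he₁
      rwa [mul_assoc, hsq e₁ he₁.1, mul_one] at this
  have he₁E₀ : e₁ ∉ E₀ := fun hh => he₁B hh.2
  have hr₁ := hrne e₁ he₁ he₁B
  by_cases h2 : E ≤ E₁
  · have hc : Nat.card E₀ = 8 := by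
      have := card_adjoin (hs := hsq e₁ he₁.1) (hc := hE₀c e₁ he₁) he₁E₀
      rw [← hE₁, le_antisymm hE₁le h2, hE16] at this
      omega
    refine ⟨Or.inl hc, ?_⟩
    rw [hc]
    refine le_trans (Subgroup.card_le_of_le (show CB ≤ p.B ⊓ centralizer {e₁} from
      fun x hx => ⟨hx.1, mem_centralizer_singleton_iff.2
        (mem_centralizer_iff.1 hx.2 e₁ he₁).symm⟩)) ?_
    rw [F.card_fix (p.E_le he₁), card_fix_involution _ hr₁ (hrsq e₁ he₁)]
  · obtain ⟨e₂, he₂, he₂E₁⟩ := SetLike.not_le_iff_exists.1 h2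
    have he₂B : e₂ ∉ p.B := fun hh => he₂E₁ (le_adjoin ⟨he₂, hh⟩)
    have hr₂ := hrne e₂ he₂ he₂B
    have hr12 : F.rho e₁ ≠ F.rho e₂ := by
      intro hh
      refine he₂E₁ (mem_adjoin.2 (Or.inr ⟨mul_mem he₂ he₁, ?_⟩))
      refine (F.rho_zero _ (p.E_le (mul_mem he₂ he₁))).1 ?_
      rw [F.rho_mul e₂ (p.E_le he₂) e₁ (p.E_le he₁), ← hh, hrsq e₁ he₁]
    set E₂ := adjoin E₁ e₂ (hsq e₂ he₂.1) (fun k hk => hEE e₂ he₂ k (hE₁le hk)) with hE₂
    have hE₂eq : E₂ = E := by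
      refine le_antisymm (fun x hx => ?_) fun x hx => ?_
      · rcases mem_adjoin.1 hx with hx | hx
        · exact hE₁le hx
        · have := mul_mem (hE₁le hx) he₂
          rwa [mul_assoc, hsq e₂ he₂.1, mul_one] at this
      · by_contra hn
        have h0 : ∀ y ∈ E, y ∉ E₂ → F.rho y ≠ 0 ∧ F.rho y ≠ F.rho e₁ := by
          intro y hy hy2
          refine ⟨fun h0 => hy2 (le_adjoin (le_adjoin
            ⟨hy, (F.rho_zero y (p.E_le hy)).1 h0⟩)), fun h1 => hy2 (le_adjoin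
              (mem_adjoin.2 (Or.inr ⟨mul_mem hy he₁, (F.rho_zero _ (p.E_le (mul_mem hy he₁))).1 ?_⟩)))⟩
          rw [F.rho_mul y (p.E_le hy) e₁ (p.E_le he₁), h1, hrsq e₁ he₁]
        have hx2 : x * e₂ ∉ E₂ := fun hh => hn (by
          have := mul_mem hh (self_mem_adjoin (K := E₁) (s := e₂))
          rwa [mul_assoc, hsq e₂ he₂.1, mul_one] at this)
        obtain ⟨hx0, hx1⟩ := h0 x hx hn
        obtain ⟨hxe0, hxe1⟩ := h0 _ (mul_mem hx he₂) hx2
        rw [F.rho_mul x (p.E_le hx) e₂ (p.E_le he₂)] at hxe0 hxe1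
        rcases three_commuting _ _ _ hr₁ hr₂ hr12 (hrsq e₁ he₁) (hrsq e₂ he₂) (hrsq x hx)
          (hrcomm e₁ he₁ e₂ he₂) (hrcomm e₁ he₁ x hx) (hrcomm e₂ he₂ x hx) with h | h | h | h
        · exact hx0 h
        · exact hx1 h
        · exact hxe0 (by rw [h, hrsq e₂ he₂])
        · refine hxe1 ?_
          rw [h, ← F.rho_mul e₁ (p.E_le he₁) e₂ (p.E_le he₂), ← F.rho_mul (e₁ * e₂)
            (mul_mem (p.E_le he₁) (p.E_le he₂)) e₂ (p.E_le he₂), mul_assoc, hsq e₂ he₂.1, mul_one]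
    have hc : Nat.card E₀ = 4 := by
      have h3 := card_adjoin (hs := hsq e₂ he₂.1)
        (hc := fun k hk => hEE e₂ he₂ k (hE₁le hk)) he₂E₁
      have h4 := card_adjoin (hs := hsq e₁ he₁.1) (hc := hE₀c e₁ he₁) he₁E₀
      rw [← hE₂, hE₂eq, hE16, hE₁, h4] at h3
      omega
    refine ⟨Or.inr hc, ?_⟩
    have h8 : Nat.card ↥(p.B ⊓ centralizer {e₁} ⊓ centralizer {e₂}) = 8 := by
      rw [F.card_eq (p.B ⊓ centralizer {e₁} ⊓ centralizer {e₂}) (inf_le_left.trans inf_le_left)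
        (fixF (F.rho e₁) ∩ fixF (F.rho e₂)) (fun b hb => by
          rw [mem_inf, mem_inf, Finset.mem_inter, fixF, fixF, Finset.mem_filter, Finset.mem_filter,
            ← F.commutes_iff (p.E_le he₁) hb, ← F.commutes_iff (p.E_le he₂) hb,
            mem_centralizer_singleton_iff, mem_centralizer_singleton_iff]
          exact ⟨fun h => ⟨⟨Finset.mem_univ _, h.1.2.symm⟩, Finset.mem_univ _, h.2.symm⟩,
            fun h => ⟨⟨hb, h.1.2.symm⟩, h.2.2.symm⟩⟩)]
      exact card_fix_pair _ _ hr₁ hr₂ hr12 (hrsq e₁ he₁) (hrsq e₂ he₂) (hrcomm e₁ he₁ e₂ he₂)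
    rw [hc]
    exact (Subgroup.card_le_of_le (show CB ≤ p.B ⊓ centralizer {e₁} ⊓ centralizer {e₂} from fun x hx =>
      ⟨⟨hx.1, mem_centralizer_singleton_iff.2 (mem_centralizer_iff.1 hx.2 e₁ he₁).symm⟩,
        mem_centralizer_singleton_iff.2 (mem_centralizer_iff.1 hx.2 e₂ he₂).symm⟩)).trans h8.le

/-- the common stabiliser bound in a Sylow subgroup containing `A` -/
theorem stab_bound [Finite G] {Q A : Subgroup G} (F : Frame Q A) {s : G} (hs : s ∈ Q)
    (hs1 : s * s = 1) (hsA : s ∉ A) {E₀ : Subgroup G} (hE₀ : E₀ ≤ A ⊓ centralizer {s})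
    {a₁ : G} (ha₁ : a₁ ∈ A) (hc₁ : a₁ * (s * a₁ * s⁻¹) ∉ E₀)
    (hcard : Nat.card E₀ = 8 ∨ Nat.card E₀ = 4) :
    ∃ D : Finset (Fin 8), D.card * Nat.card E₀ ≤ 16 ∧
      (∀ d, rm d (F.rho s) = rm (F.rho s) d →
        (∀ e ∈ E₀, act d (F.alpha e) = F.alpha e) → d ∈ D) ∧
      (D.card * Nat.card E₀ = 16 →
        ∃ a ∈ A, a * (s * a * s⁻¹) ∈ E₀ ∧ a * (s * a * s⁻¹) ≠ 1) := by
  classical
  set r := F.rho s with hr
  have hr0 : r ≠ 0 := fun h0 => hsA ((F.rho_zero s hs).1 h0)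
  have hrr : rm r r = 0 := F.rho_sq_of hs hs1
  have hEA : E₀ ≤ A := hE₀.trans inf_le_left
  have hEfix : ∀ e ∈ E₀, act r (F.alpha e) = F.alpha e := fun e he =>
    (F.commutes_iff hs (hEA he)).1 (mem_centralizer_singleton_iff.1 (hE₀ he).2).symm
  have hdispmem : ∀ {a : G}, a ∈ A → ∀ {e : G}, e ∈ E₀ →
      disp r (F.alpha a) = F.alpha e → a * (s * a * s⁻¹) ∈ E₀ := by
    intro a ha e he h
    rw [← F.alpha_disp hs ha] at h
    rw [F.alpha_inj _ (mul_mem ha (F.conj_mem s hs a ha)) e (hEA he) h]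
    exact he
  rcases hcard with h8 | h4
  · refine ⟨{0, r}, ?_, ?_, fun _ => ?_⟩
    · rw [h8, Finset.card_pair hr0.symm]
    · intro d hdr hdE
      rw [Finset.mem_insert, Finset.mem_singleton]
      by_contra hd
      push Not at hd
      have himg : Nat.card E₀ = (Finset.univ.filter fun v => ∃ e ∈ E₀, F.alpha e = v).card :=
        F.card_eq E₀ hEA _ fun a ha => by
          rw [Finset.mem_filter]
          exact ⟨fun h => ⟨Finset.mem_univ _, a, h, rfl⟩, fun ⟨_, e, he, hee⟩ =>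
            (F.alpha_inj e (hEA he) a ha hee) ▸ he⟩
      set Im := Finset.univ.filter fun v => ∃ e ∈ E₀, F.alpha e = v
      rw [h8] at himg
      by_cases hdd : rm d d = 0
      · have hsub : Im ⊆ fixF d ∩ fixF r := fun v hv => by
          obtain ⟨-, e, he, rfl⟩ := Finset.mem_filter.1 hv
          simp only [fixF, Finset.mem_inter, Finset.mem_filter, Finset.mem_univ, true_and]
          exact ⟨hdE e he, hEfix e he⟩
        have heq := Finset.eq_of_subset_of_card_le hsub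
          (by rw [card_fix_pair d r hd.1 hr0 hd.2 hdd hrr hdr, ← himg])
        refine hc₁ ?_
        have : disp r (F.alpha a₁) ∈ Im := by
          rw [heq]
          simp only [fixF, Finset.mem_inter, Finset.mem_filter, Finset.mem_univ, true_and]
          exact ⟨quad r d _ hrr hdd hdr.symm, disp_fixed r _ hrr⟩
        obtain ⟨-, e, he, hee⟩ := Finset.mem_filter.1 this
        exact hdispmem ha₁ he hee.symm
      · have hsub : Im ⊆ fixF d := fun v hv => by
          obtain ⟨-, e, he, rfl⟩ := Finset.mem_filter.1 hv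
          simp only [fixF, Finset.mem_filter, Finset.mem_univ, true_and]
          exact hdE e he
        have := Finset.card_le_card hsub
        rw [card_fix_four d hdd, ← himg] at this
        omega
    · obtain ⟨w, hw0, hw1⟩ := disp_two r hr0 hrr (disp r (F.alpha a₁))
      obtain ⟨a₂, ha₂, rfl⟩ := F.alpha_surj w
      set c₁ := a₁ * (s * a₁ * s⁻¹) with hc₁def
      set c₂ := a₂ * (s * a₂ * s⁻¹) with hc₂def
      have hA₁ : c₁ ∈ A := mul_mem ha₁ (F.conj_mem s hs a₁ ha₁)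
      have hA₂ : c₂ ∈ A := mul_mem ha₂ (F.conj_mem s hs a₂ ha₂)
      have hne2 : c₂ ≠ 1 := fun e => hw0 (by rw [← F.alpha_disp hs ha₂, ← hc₂def, e, F.alpha_one])
      by_cases h : c₂ ∈ E₀
      · exact ⟨a₂, ha₂, h, hne2⟩
      have hcent : ∀ {a : G}, a ∈ A → a * (s * a * s⁻¹) ∈ A ⊓ centralizer {s} := fun {a} ha => by
        refine ⟨mul_mem ha (F.conj_mem s hs a ha), mem_centralizer_singleton_iff.2 ?_⟩
        refine ((F.commutes_iff hs (mul_mem ha (F.conj_mem s hs a ha))).2 ?_).symm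
        rw [F.alpha_disp hs ha]
        exact disp_fixed _ _ hrr
      have hk : ∀ k ∈ E₀, c₁ * k = k * c₁ := fun k hk =>
        F.alpha_inj _ (mul_mem hA₁ (hEA hk)) _ (mul_mem (hEA hk) hA₁) (by
          rw [F.alpha_mul c₁ hA₁ k (hEA hk), F.alpha_mul k (hEA hk) c₁ hA₁]
          exact Fin.ext (Nat.xor_comm _ _))
      have hE : adjoin E₀ c₁ (F.sq hA₁) hk = A ⊓ centralizer {s} := by
        refine Subgroup.eq_of_le_of_card_ge (fun x hx => ?_) ?_
        · rcases mem_adjoin.1 hx with hx | hx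
          · exact hE₀ hx
          · have := mul_mem (hE₀ hx) (hcent ha₁)
            rwa [mul_assoc, F.sq hA₁, mul_one] at this
        · rw [card_adjoin hc₁, h8, F.card_fix hs, card_fix_involution _ hr0 hrr]
      have : c₂ ∈ adjoin E₀ c₁ (F.sq hA₁) hk := hE ▸ hcent ha₂
      have hprod : (a₂ * a₁) * (s * (a₂ * a₁) * s⁻¹) = c₂ * c₁ := by
        refine F.alpha_inj _ (mul_mem (mul_mem ha₂ ha₁) (F.conj_mem s hs _ (mul_mem ha₂ ha₁))) _
          (mul_mem hA₂ hA₁) ?_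
        rw [F.alpha_disp hs (mul_mem ha₂ ha₁), F.alpha_mul a₂ ha₂ a₁ ha₁, F.alpha_mul c₂ hA₂ c₁ hA₁,
          F.alpha_disp hs ha₂, F.alpha_disp hs ha₁, disp_vadd]
      refine ⟨a₂ * a₁, mul_mem ha₂ ha₁, ?_, ?_⟩ <;> rw [hprod]
      · exact (mem_adjoin.1 this).resolve_left h
      · intro e
        have h2 : c₂ = c₁ := by
          rw [← mul_one c₂, ← F.sq hA₁, ← mul_assoc, e, one_mul]
        exact hw1 (by rw [← F.alpha_disp hs ha₂, ← F.alpha_disp hs ha₁, ← hc₂def, ← hc₁def, h2])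
  · have hEbot : E₀ ≠ ⊥ := fun e => by rw [e, card_bot] at h4; omega
    obtain ⟨e₁, he₁, he₁1⟩ := E₀.bot_or_exists_ne_one.resolve_left hEbot
    let K := adjoin (⊥ : Subgroup G) e₁ (F.sq (hEA he₁))
      fun k hk => by rw [mem_bot.1 hk]; simp
    have hKc : Nat.card K = 2 := by
      rw [card_adjoin (fun h => he₁1 (mem_bot.1 h)), card_bot]
    obtain ⟨e₂, he₂, he₂K⟩ := SetLike.not_le_iff_exists.1
      (show ¬ E₀ ≤ K from fun hh => by have := Subgroup.card_le_of_le hh; omega)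
    have he₂1 : e₂ ≠ 1 := fun e => he₂K (e ▸ K.one_mem)
    have hkk : ∀ k ∈ K, e₂ * k = k * e₂ := fun k hk => by
      have hkA : k ∈ A := by
        rcases mem_adjoin.1 hk with h | h
        · rw [mem_bot.1 h]; exact A.one_mem
        · rw [← inv_inv k, inv_eq_of_mul_eq_one_right (mem_bot.1 h)]; exact inv_mem (hEA he₁)
      exact F.alpha_inj _ (mul_mem (hEA he₂) hkA) _ (mul_mem hkA (hEA he₂)) (by
          rw [F.alpha_mul e₂ (hEA he₂) k hkA, F.alpha_mul k hkA e₂ (hEA he₂)]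
          exact Fin.ext (Nat.xor_comm _ _))
    let K₂ := adjoin K e₂ (F.sq (hEA he₂)) hkk
    have hKe : ∀ x ∈ K, x = 1 ∨ x = e₁ := fun x hx => by
      rcases mem_adjoin.1 hx with h | h
      · exact Or.inl (mem_bot.1 h)
      · right
        rw [← mul_inv_eq_one, inv_eq_of_mul_eq_one_right (F.sq (hEA he₁))]
        exact mem_bot.1 h
    have hK₂ : K₂ = E₀ := by
      refine Subgroup.eq_of_le_of_card_ge (fun x hx => ?_) ?_
      · rcases mem_adjoin.1 hx with h | h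
        · rcases hKe x h with rfl | rfl
          exacts [E₀.one_mem, he₁]
        · have hxe : x * e₂ ∈ E₀ := by
            rcases hKe _ h with h | h <;> rw [h]
            exacts [E₀.one_mem, he₁]
          have := mul_mem hxe he₂
          rwa [mul_assoc, F.sq (hEA he₂), mul_one] at this
      · rw [h4, card_adjoin he₂K, hKc]
    have hval : ∀ e ∈ E₀, F.alpha e ∈
        [0, F.alpha e₁, F.alpha e₂, vadd (F.alpha e₁) (F.alpha e₂)] := by
      intro e he
      rw [← hK₂] at he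
      rcases mem_adjoin.1 he with h | h
      · rcases hKe e h with rfl | rfl <;> simp [F.alpha_one]
      · have e' : e = e * e₂ * e₂ := by rw [mul_assoc, F.sq (hEA he₂), mul_one]
        rcases hKe _ h with h | h <;> rw [e', h] <;>
          simp [F.alpha_mul e₁ (hEA he₁) e₂ (hEA he₂)]
    have hinE : ∀ {a : G}, a ∈ A →
        disp r (F.alpha a) ∈ [0, F.alpha e₁, F.alpha e₂, vadd (F.alpha e₁) (F.alpha e₂)] →
        a * (s * a * s⁻¹) ∈ E₀ := by
      intro a ha h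
      simp only [List.mem_cons, List.not_mem_nil, or_false] at h
      rcases h with h | h | h | h
      · exact hdispmem ha E₀.one_mem (by rw [h, F.alpha_one])
      · exact hdispmem ha he₁ h
      · exact hdispmem ha he₂ h
      · exact hdispmem ha (mul_mem he₁ he₂) (by rw [h, F.alpha_mul e₁ (hEA he₁) e₂ (hEA he₂)])
    have hz : ∀ {e : G}, e ∈ E₀ → e ≠ 1 → F.alpha e ≠ 0 := fun {e} he he1 h0 =>
      he1 (F.alpha_inj _ (hEA he) _ A.one_mem (by rw [h0, F.alpha_one]))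
    have hfe : ∀ {e : G}, e ∈ E₀ → F.alpha e ∈ fixF r := fun {e} he => by
      simp only [fixF, Finset.mem_filter, Finset.mem_univ, true_and]; exact hEfix e he
    have hne12 : F.alpha e₁ ≠ F.alpha e₂ := fun hh => he₂K (by
      rw [← F.alpha_inj _ (hEA he₁) _ (hEA he₂) hh]; exact self_mem_adjoin)
    rcases pair_stab r hr0 hrr _ (hfe he₁) _ (hfe he₂) (hz he₁ he₁1) (hz he₂ he₂1) hne12 with
      hall | ⟨hle, heq⟩
    · exact absurd (hinE ha₁ (hall _)) hc₁
    refine ⟨Finset.univ.filter fun d => rm d r = rm r d ∧ act d (F.alpha e₁) = F.alpha e₁ ∧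
      act d (F.alpha e₂) = F.alpha e₂, ?_, fun d hdr hdE => Finset.mem_filter.2
      ⟨Finset.mem_univ _, hdr, hdE e₁ he₁, hdE e₂ he₂⟩, fun h16 => ?_⟩
    · rw [h4]; omega
    · rw [h4] at h16
      obtain ⟨v, hv0, hv⟩ := heq (by omega)
      obtain ⟨a, ha, rfl⟩ := F.alpha_surj v
      exact ⟨a, ha, hinE ha hv,
        fun e => hv0 (by rw [← F.alpha_disp hs ha, e, F.alpha_one])⟩

theorem TypeQ.not_conj [Finite G] (h : TypeQ G) (S : Sylow 2 G) {A : Subgroup G}
    (hAS : A ≤ (S : Subgroup G)) (hAc : IsMulCommutative ↥A) (hA64 : Nat.card ↥A = 64)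
    {a g : G} (ha : a ∈ A) (hgS : g * a * g⁻¹ ∈ (S : Subgroup G)) : g * a * g⁻¹ ∈ A := by
  classical
  haveI : Fact (Nat.Prime 2) := ⟨Nat.prime_two⟩
  by_contra hsA
  obtain ⟨F⟩ := h.frame S hAS hAc hA64
  set s := g * a * g⁻¹ with hs
  have hA2 : IsPGroup 2 A := S.isPGroup'.to_le hAS
  have hsq : ∀ x ∈ A, x * x = 1 := fun x hx => F.sq hx
  have hs1 : s * s = 1 := by
    rw [hs, show g * a * g⁻¹ * (g * a * g⁻¹) = g * (a * a) * g⁻¹ by group, hsq a ha]; simp
  have hr0 : F.rho s ≠ 0 := fun h0 => hsA ((F.rho_zero s hgS).1 h0)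
  have hrr := F.rho_sq_of hgS hs1
  obtain ⟨c, hc, S₂, hB, hE₂⟩ := exists_conjugate hAc hA2 (g := g) ha
  haveI := hAc
  let p : Pair A s :=
    { B := A.map (MulAut.conj c).toMonoidHom
      comm := Subgroup.map_isMulCommutative _ _
      card := by rw [card_map_of_injective (MulAut.conj c).injective, hA64]
      mem := ⟨a, ha, hc⟩
      S := S₂
      B_le := hB
      E_le := hE₂ }
  set E := A ⊓ centralizer {s} with hE
  have hE16 : Nat.card E = 16 := by rw [F.card_fix hgS, card_fix_involution _ hr0 hrr]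
  obtain ⟨hcases, hBE⟩ := p.facts h hAc hsq hE16 hsA
  set B := p.B
  set E₀ := E ⊓ B with hE₀
  have hEc : ∀ e ∈ E, s * e = e * s := fun e he => (mem_centralizer_singleton_iff.1 he.2).symm
  let L := adjoin E s hs1 hEc
  let B₀ := adjoin E₀ s hs1 fun e he => hEc e he.1
  have hsE : s ∉ E := fun hh => hsA hh.1
  have hsE₀ : s ∉ E₀ := fun hh => hsA hh.1.1
  have hB₀L : B₀ ≤ L := fun x hx => by
    rcases mem_adjoin.1 hx with hx | hx
    · exact Or.inl hx.1
    · exact Or.inr hx.1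
  have hE₀B₀ : E₀ ≤ B₀ := le_adjoin
  have hLsq : ∀ l ∈ L, l * l = 1 := by
    intro l hl
    rcases mem_adjoin.1 hl with hl | hl
    · exact hsq l hl.1
    · set e := l * s with he
      have hle : l = e * s := by rw [he, mul_assoc, hs1, mul_one]
      calc l * l = e * s * (e * s) := by rw [← hle]
        _ = e * (s * e) * s := by group
        _ = (e * e) * (s * s) := by rw [hEc e hl]; group
        _ = 1 := by rw [hs1, hsq e hl.1, one_mul]
  have hBs : ∀ b ∈ B, b * s = s * b := fun b hb => by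
    haveI := p.comm
    exact setLike_mul_comm hb p.mem
  have hcA : ∀ x ∈ A, x * (s * x * s⁻¹) ∈ E := by
    intro x hx
    refine ⟨mul_mem hx (F.conj_mem s hgS x hx), mem_centralizer_singleton_iff.2 ?_⟩
    refine ((F.commutes_iff hgS (mul_mem hx (F.conj_mem s hgS x hx))).2 ?_).symm
    rw [F.alpha_disp hgS hx]
    exact disp_fixed _ _ hrr
  have hAcomm : ∀ x ∈ A, ∀ e ∈ A, x * e = e * x := fun x hx e he => setLike_mul_comm hx he
  -- the displacement of an element of `L` under an element of `A` or `B`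
  have hAdisp : ∀ x ∈ A, ∀ l ∈ L, (l ∈ E ∧ x * l * x⁻¹ * l⁻¹ = 1) ∨
      x * l * x⁻¹ * l⁻¹ = x * (s * x * s⁻¹) := by
    intro x hx l hl
    rcases mem_adjoin.1 hl with hl | hl
    · left
      refine ⟨hl, ?_⟩
      rw [hAcomm x hx l hl.1]; group
    · right
      set e := l * s with he
      have hle : l = e * s := by rw [he, mul_assoc, hs1, mul_one]
      have hxi : x⁻¹ = x := inv_eq_of_mul_eq_one_right (hsq x hx)
      have hconjA := F.conj_mem s hgS x hx
      calc x * l * x⁻¹ * l⁻¹ = (x * e) * (s * x⁻¹ * s⁻¹) * e⁻¹ := by rw [hle]; group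
        _ = (x * e) * (s * x * s⁻¹) * e⁻¹ := by rw [hxi]
        _ = x * (e * (s * x * s⁻¹)) * e⁻¹ := by group
        _ = x * (s * x * s⁻¹) := by rw [hAcomm e hl.1 _ hconjA]; group
  have hBdisp : ∀ b ∈ B, ∀ l ∈ L, b * l * b⁻¹ * l⁻¹ ∈ B₀ := by
    intro b hb l hl
    have key : ∀ e ∈ E, b * e * b⁻¹ * e⁻¹ ∈ B₀ := by
      intro e he
      have := inv_mem (show e * b * e⁻¹ * b⁻¹ ∈ B₀ from mem_adjoin.2 (hBE e he b hb))
      rwa [show (e * b * e⁻¹ * b⁻¹)⁻¹ = b * e * b⁻¹ * e⁻¹ by group] at this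
    rcases mem_adjoin.1 hl with hl | hl
    · exact key l hl
    · have e1 : b * l * b⁻¹ * l⁻¹ = b * (l * s) * b⁻¹ * (l * s)⁻¹ := by
        calc b * l * b⁻¹ * l⁻¹ = b * (l * s) * (s⁻¹ * b⁻¹) * l⁻¹ := by group
          _ = b * (l * s) * (b⁻¹ * s⁻¹) * l⁻¹ := by
            rw [← mul_inv_rev, hBs b hb, mul_inv_rev]
          _ = _ := by group
      rw [e1]; exact key _ hl
  have hAEfix : ∀ x ∈ A, ∀ e ∈ E₀, x * e = e * x := fun x hx e he => hAcomm x hx e he.1.1
  have hBEfix : ∀ x ∈ B, ∀ e ∈ E₀, x * e = e * x := fun x hx e he => by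
    haveI := p.comm
    exact setLike_mul_comm hx he.2
  let Y := normalizer (L : Set G) ⊓ centralizer (E₀ : Set G)
  have hNL : ∀ x : G, (∀ l ∈ L, x * l * x⁻¹ * l⁻¹ ∈ L) → x ∈ normalizer (L : Set G) :=
    fun x hx => mem_normalizer_fintype fun l hl => by
      have := mul_mem (hx l hl) hl
      rwa [inv_mul_cancel_right] at this
  have hAL : ∀ x ∈ A, ∀ l ∈ L, x * l * x⁻¹ * l⁻¹ ∈ E := fun x hx l hl => by
    rcases hAdisp x hx l hl with ⟨-, h1⟩ | h1 <;> rw [h1]
    exacts [one_mem _, hcA x hx]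
  have hAY : A ≤ Y := fun x hx => ⟨hNL x fun l hl => le_adjoin (hAL x hx l hl),
    mem_centralizer_iff.2 fun e he => (hAEfix x hx e he).symm⟩
  have hBY : B ≤ Y := fun x hx => ⟨hNL x fun l hl => hB₀L (hBdisp x hx l hl),
    mem_centralizer_iff.2 fun e he => (hBEfix x hx e he).symm⟩
  let KY : Subgroup ↥Y := (centralizer (L : Set G)).subgroupOf Y
  haveI hKYn : KY.Normal := by
    refine ⟨fun k hk y => mem_subgroupOf.2 ?_⟩
    have hy : y.1 ∈ normalizer (L : Set G) := y.2.1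
    rw [mem_centralizer_iff]
    intro l hl
    have hl' : y.1⁻¹ * l * y.1⁻¹⁻¹ ∈ L := (mem_normalizer_iff.1 (inv_mem hy) l).1 hl
    have h1 := mem_centralizer_iff.1 (mem_subgroupOf.1 hk) _ hl'
    show l * (y.1 * k.1 * y.1⁻¹) = y.1 * k.1 * y.1⁻¹ * l
    calc l * (y.1 * k.1 * y.1⁻¹) = y.1 * (y.1⁻¹ * l * y.1⁻¹⁻¹ * k.1) * y.1⁻¹ := by group
      _ = _ := by rw [h1]; group
  by_cases hcase : ∀ x ∈ A, x * (s * x * s⁻¹) ∈ E₀
  · -- the automizer is a 2-group
    set X := A ⊔ B with hX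
    have hXY : X ≤ Y := sup_le hAY hBY
    have hXstab : X ≤ stabSeries L B₀ E₀ := by
      refine sup_le (fun x hx => (mem_stabSeries hE₀B₀).2 ⟨hAEfix x hx, fun y hy => ?_,
        fun l hl => ?_⟩) (fun x hx => (mem_stabSeries hE₀B₀).2 ⟨hBEfix x hx, fun y hy => ?_,
        fun l hl => hBdisp x hx l hl⟩)
      · rcases hAdisp x hx y (hB₀L hy) with ⟨-, h1⟩ | h1 <;> rw [h1]
        exacts [one_mem _, hcase x hx]
      · rcases hAdisp x hx l hl with ⟨-, h1⟩ | h1 <;> rw [h1]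
        exacts [one_mem _, hE₀B₀ (hcase x hx)]
      · have hyB : y ∈ B := by
          rcases mem_adjoin.1 hy with hy | hy
          · exact hy.2
          · have := mul_mem hy.2 p.mem
            rwa [mul_assoc, hs1, mul_one] at this
        haveI := p.comm
        rw [setLike_mul_comm hx hyB]
        simp [one_mem]
    let K : Subgroup ↥X := (centralizer (L : Set G)).subgroupOf X
    haveI : K.Normal := ⟨fun k hk y =>
      mem_subgroupOf.2 (mem_subgroupOf.1 (hKYn.conj_mem ⟨k.1, hXY k.2⟩ hk ⟨y.1, hXY y.2⟩))⟩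
    have hAX : A ≤ X := le_sup_left
    have hBX : B ≤ X := le_sup_right
    obtain ⟨Q, hQ⟩ := (hA2.of_equiv (subgroupOfEquivOfLe hAX).symm).exists_le_sylow
    obtain ⟨Q₂, hQ₂⟩ := ((hA2.map _).of_equiv (subgroupOfEquivOfLe hBX).symm :
      IsPGroup 2 (B.subgroupOf X)).exists_le_sylow
    obtain ⟨x, hx⟩ := MulAction.exists_smul_eq X Q₂ Q
    obtain ⟨q, hq, hk⟩ := exists_sylow_part (K := K) (N := ⊤) (fun y _ hy => by
      refine mem_subgroupOf.2 (mem_centralizer_iff.2 fun l hl => ?_)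
      exact (stab_centralizes hE₀B₀ hB₀L hLsq (hXstab y.2) (by rwa [orderOf_coe]) hl).symm)
      Q (mem_top x)
    have hkC : ((q⁻¹ * x : X) : G) ∈ centralizer (L : Set G) := hk
    set k := q⁻¹ * x with hkdef
    obtain ⟨S₃, hS₃⟩ := (Q.isPGroup'.map X.subtype).exists_le_sylow
    let B' := B.map (MulAut.conj (k : G)).toMonoidHom
    have hB'Q : B' ≤ (S₃ : Subgroup G) := by
      rintro _ ⟨b, hb, rfl⟩
      refine hS₃ ⟨k * ⟨b, hBX hb⟩ * k⁻¹, ?_, ?_⟩
      · have hm : x * ⟨b, hBX hb⟩ * x⁻¹ ∈ (Q : Subgroup X) := by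
          rw [← hx, Sylow.coe_subgroup_smul]
          exact ⟨_, hQ₂ hb, rfl⟩
        have := mul_mem (mul_mem (inv_mem hq) hm) hq
        rwa [show q⁻¹ * (x * ⟨b, hBX hb⟩ * x⁻¹) * q = k * ⟨b, hBX hb⟩ * k⁻¹ by
          rw [hkdef]; group] at this
      · simp
    haveI := p.comm
    have heq := h.unique S₃ (fun y hy => hS₃ ⟨⟨y, hAX hy⟩, hQ hy, rfl⟩) hAc hA64 hB'Q
      (Subgroup.map_isMulCommutative _ _)
      (by rw [card_map_of_injective (MulAut.conj (k : G)).injective, p.card])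
    refine hsA ?_
    rw [heq]
    refine ⟨s, p.mem, ?_⟩
    rw [MulEquiv.coe_toMonoidHom, MulAut.conj_apply,
      ← mem_centralizer_iff.1 hkC s self_mem_adjoin, mul_inv_cancel_right]
  · push Not at hcase
    obtain ⟨a₁, ha₁, hc₁⟩ := hcase
    have hcard : Nat.card E₀ = 8 ∨ Nat.card E₀ = 4 := by
      rcases hcases with h1 | h1
      · exact absurd ⟨hcA a₁ ha₁, h1 (hcA a₁ ha₁)⟩ hc₁
      · exact h1
    have hLY : L ≤ Y := by
      intro l hl
      refine ⟨le_normalizer hl, mem_centralizer_iff.2 fun e he => ?_⟩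
      rcases mem_adjoin.1 hl with hl | hl
      · exact hAcomm e he.1.1 l hl.1
      · set e' := l * s with he'
        have hle : l = e' * s := by rw [he', mul_assoc, hs1, mul_one]
        calc e * l = (e * e') * s := by rw [hle]; group
          _ = e' * (e * s) := by rw [hAcomm e he.1.1 e' hl.1]; group
          _ = _ := by rw [← hEc e he.1, ← mul_assoc, ← hle]
    have hL2 : IsPGroup 2 L := fun l =>
      ⟨1, Subtype.ext (by rw [pow_one, SubgroupClass.coe_pow, pow_two]; exact hLsq l.1 l.2)⟩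
    have hALp : IsPGroup 2 ↥(A ⊔ L) :=
      hA2.to_sup_of_normal_right' hL2 fun x hx => (hAY hx).1
    have hBLp : IsPGroup 2 ↥(B ⊔ L) :=
      (hA2.map _).to_sup_of_normal_right' hL2 fun x hx => (hBY hx).1
    obtain ⟨PA, hPA⟩ :=
      (hALp.of_equiv (subgroupOfEquivOfLe (sup_le hAY hLY)).symm).exists_le_sylow
    obtain ⟨PB, hPB⟩ :=
      (hBLp.of_equiv (subgroupOfEquivOfLe (sup_le hBY hLY)).symm).exists_le_sylow
    obtain ⟨S₃, hS₃⟩ := (PA.isPGroup'.map Y.subtype).exists_le_sylow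
    have hAS₃ : A ≤ (S₃ : Subgroup G) := fun y hy =>
      hS₃ ⟨⟨y, hAY hy⟩, hPA (show y ∈ A ⊔ L from mem_sup_left hy), rfl⟩
    have hsS₃ : s ∈ (S₃ : Subgroup G) :=
      hS₃ ⟨⟨s, hLY self_mem_adjoin⟩, hPA (show s ∈ A ⊔ L from mem_sup_right self_mem_adjoin), rfl⟩
    obtain ⟨F₃⟩ := h.frame S₃ hAS₃ hAc hA64
    obtain ⟨D, hD, hDmem, hD0⟩ := stab_bound F₃ hsS₃ hs1 hsA (E₀ := E₀) inf_le_left ha₁ hc₁ hcard
    -- upper bound
    have hup : Nat.card ↥(PA : Subgroup Y) ≤ 64 * D.card := by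
      choose sec hsecQ hsec using F₃.rho_surj
      have hin : ∀ x : ↥(PA : Subgroup Y), (x.1 : G) ∈ (S₃ : Subgroup G) := fun x =>
        hS₃ ⟨x.1, x.2, rfl⟩
      have hrho : ∀ x : ↥(PA : Subgroup Y), F₃.rho (x.1 : G) ∈ D := by
        intro x
        set y := (x.1 : G)
        refine hDmem _ ?_ fun e he => ?_
        · have hN : y ∈ normalizer (L : Set G) := x.1.2.1
          have hm := (mem_normalizer_iff.1 hN s).1 self_mem_adjoin
          have hq : F₃.rho (y * s * y⁻¹) = F₃.rho s := by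
            have hy := hin x
            have hyin : y * s * y⁻¹ ∈ (S₃ : Subgroup G) := mul_mem (mul_mem hy hsS₃) (inv_mem hy)
            rcases mem_adjoin.1 hm with hm | hm
            · exfalso
              refine hsA ?_
              have := F₃.conj_mem y⁻¹ (inv_mem hy) _ hm.1
              rwa [show y⁻¹ * (y * s * y⁻¹) * y⁻¹⁻¹ = s by group] at this
            · have h0 : F₃.rho (y * s * y⁻¹ * s) = 0 :=
                (F₃.rho_zero _ (mul_mem hyin hsS₃)).2 hm.1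
              have h1 := F₃.rho_mul _ (mul_mem hyin hsS₃) s hsS₃
              rw [mul_assoc (y * s * y⁻¹) s s, hs1, mul_one, h0, (rm_zero _).1] at h1
              exact h1
          have h1 := F₃.rho_mul _ (mul_mem (mul_mem (hin x) hsS₃) (inv_mem (hin x))) y (hin x)
          rw [inv_mul_cancel_right, F₃.rho_mul y (hin x) s hsS₃, hq] at h1
          exact h1
        · exact (F₃.commutes_iff (hin x) he.1.1).1 (mem_centralizer_iff.1 x.1.2.2 e he).symm
      have hfib : ∀ x : ↥(PA : Subgroup Y), (sec (F₃.rho (x.1 : G)))⁻¹ * x.1 ∈ A := by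
        intro x
        set d := F₃.rho (x.1 : G)
        set t := (sec d)⁻¹ * (x.1 : G)
        have htQ : t ∈ (S₃ : Subgroup G) := mul_mem (inv_mem (hsecQ d)) (hin x)
        refine (F₃.rho_zero t htQ).1 (rm_left_cancel d _ _ ?_)
        have := F₃.rho_mul (sec d) (hsecQ d) t htQ
        rw [hsec, mul_inv_cancel_left] at this
        rw [← this, (rm_zero d).2]
      have hle : Nat.card ↥(PA : Subgroup Y) ≤ Nat.card (↥A × ↥D) := by
        refine Nat.card_le_card_of_injective (fun x => (⟨_, hfib x⟩, ⟨_, hrho x⟩)) ?_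
        intro x y hxy
        have h1 : (sec (F₃.rho (x.1 : G)))⁻¹ * (x.1 : G) = (sec (F₃.rho (y.1 : G)))⁻¹ * (y.1 : G) :=
          congrArg (fun q : ↥A × ↥D => (q.1 : G)) hxy
        have h2 : F₃.rho (x.1 : G) = F₃.rho (y.1 : G) :=
          congrArg (fun q : ↥A × ↥D => (q.2 : Fin 8)) hxy
        rw [h2] at h1
        exact Subtype.ext (Subtype.ext (mul_left_cancel h1))
      rwa [Nat.card_prod, hA64, Nat.card_eq_finsetCard] at hle
    -- lower bound
    have hLc : Nat.card L = 32 := by rw [card_adjoin hsE, hE16]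
    have hB₀c : Nat.card B₀ = 2 * Nat.card E₀ := card_adjoin hsE₀
    have hBL : B ⊓ L ≤ B₀ := by
      rintro x ⟨hxB, hxL⟩
      rcases mem_adjoin.1 hxL with hx | hx
      · exact Or.inl ⟨hx, hxB⟩
      · exact Or.inr ⟨hx, mul_mem hxB p.mem⟩
    have hlow : 64 * 32 ≤ Nat.card ↥(B ⊔ L) * (2 * Nat.card E₀) := by
      set W := normalizer (L : Set G)
      have hBW : B ≤ W := fun x hx => (hBY hx).1
      have hLW : L ≤ W := le_normalizer
      haveI : (L.subgroupOf W).Normal := normal_in_normalizer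
      have h1 := Cores.card_sup_mul_card_inf (B.subgroupOf W) (L.subgroupOf W)
      rw [Nat.card_congr (subgroupOfEquivOfLe hBW).toEquiv,
        Nat.card_congr (subgroupOfEquivOfLe hLW).toEquiv, ← subgroupOf_sup hBW hLW,
        Nat.card_congr (subgroupOfEquivOfLe (sup_le hBW hLW)).toEquiv, ← show (B ⊓ L).subgroupOf W = B.subgroupOf W ⊓ L.subgroupOf W from comap_inf _ _ _,
        Nat.card_congr (subgroupOfEquivOfLe (inf_le_of_left_le hBW)).toEquiv, p.card, hLc] at h1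
      rw [← h1, ← hB₀c]
      exact Nat.mul_le_mul_left _ (Subgroup.card_le_of_le hBL)
    have hPeq : Nat.card ↥(PA : Subgroup Y) = Nat.card ↥(PB : Subgroup Y) := by
      rw [PA.card_eq_multiplicity, PB.card_eq_multiplicity]
    have hBLY : Nat.card ↥((B ⊔ L).subgroupOf Y) = Nat.card ↥(B ⊔ L) :=
      Nat.card_congr (subgroupOfEquivOfLe (sup_le hBY hLY)).toEquiv
    have hle1 : Nat.card ↥(B ⊔ L) ≤ Nat.card ↥(PB : Subgroup Y) :=
      hBLY ▸ Subgroup.card_le_of_le hPB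
    have hmul : Nat.card ↥(B ⊔ L) * Nat.card E₀ ≥ 1024 := by
      rw [ge_iff_le]
      have : Nat.card ↥(B ⊔ L) * (2 * Nat.card E₀) = 2 * (Nat.card ↥(B ⊔ L) * Nat.card E₀) := by ring
      omega
    have hDE : D.card * Nat.card E₀ = 16 ∧
        Nat.card ↥(PB : Subgroup Y) ≤ Nat.card ↥((B ⊔ L).subgroupOf Y) := by
      rw [hBLY, ← hPeq]
      rcases hcard with hc | hc <;> rw [hc] at hD hmul ⊢ <;> omega
    have hPBeq : (B ⊔ L).subgroupOf Y = (PB : Subgroup Y) :=
      Subgroup.eq_of_le_of_card_ge hPB hDE.2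
    obtain ⟨a₀, ha₀, hc₀, hc₀1⟩ := hD0 hDE.1
    -- the normal 2-part of the automizer
    let N₀ : Subgroup ↥Y := (stabSeries L E₀ E₀).subgroupOf Y
    haveI : N₀.Normal := by
      refine ⟨fun x hx y => mem_subgroupOf.2 ((mem_stabSeries le_rfl).2 ?_)⟩
      obtain ⟨h1, h2, h3⟩ := (mem_stabSeries le_rfl).1 (mem_subgroupOf.1 hx)
      have hyE : ∀ e ∈ E₀, y.1 * e = e * y.1 := fun e he =>
        (mem_centralizer_iff.1 y.2.2 e he).symm
      have hcE : ∀ e ∈ E₀, (y.1 * x.1 * y.1⁻¹) * e = e * (y.1 * x.1 * y.1⁻¹) := fun e he => by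
        have hy' : y.1⁻¹ * e = e * y.1⁻¹ := (Commute.inv_left (hyE e he)).eq
        calc y.1 * x.1 * y.1⁻¹ * e = y.1 * (x.1 * e) * y.1⁻¹ := by
              rw [mul_assoc (y.1 * x.1), hy']; group
          _ = (y.1 * e) * (x.1 * y.1⁻¹) := by rw [h1 e he]; group
          _ = _ := by rw [hyE e he]; group
      refine ⟨hcE, fun m hm => ?_, fun l hl => ?_⟩
      · show y.1 * x.1 * y.1⁻¹ * m * (y.1 * x.1 * y.1⁻¹)⁻¹ * m⁻¹ ∈ E₀
        rw [hcE m hm]; group; exact one_mem _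
      · have hl' := (mem_normalizer_iff.1 (inv_mem y.2.1) l).1 hl
        set cc := x.1 * (y.1⁻¹ * l * y.1⁻¹⁻¹) * x.1⁻¹ * (y.1⁻¹ * l * y.1⁻¹⁻¹)⁻¹ with hccdef
        have hcc : cc ∈ E₀ := h3 _ hl'
        show y.1 * x.1 * y.1⁻¹ * l * (y.1 * x.1 * y.1⁻¹)⁻¹ * l⁻¹ ∈ E₀
        rw [show y.1 * x.1 * y.1⁻¹ * l * (y.1 * x.1 * y.1⁻¹)⁻¹ * l⁻¹ = y.1 * cc * y.1⁻¹ by
          rw [hccdef]; group, hyE _ hcc, mul_inv_cancel_right]
        exact hcc
    have ha₀N : (⟨a₀, hAY ha₀⟩ : ↥Y) ∈ N₀ := by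
      refine mem_subgroupOf.2 ((mem_stabSeries le_rfl).2 ⟨hAEfix a₀ ha₀, fun m hm => ?_,
        fun l hl => ?_⟩)
      · rw [hAEfix a₀ ha₀ m hm]; simp [one_mem]
      · rcases hAdisp a₀ ha₀ l hl with ⟨-, h1⟩ | h1
        · show a₀ * l * a₀⁻¹ * l⁻¹ ∈ E₀
          rw [h1]; exact one_mem _
        · show a₀ * l * a₀⁻¹ * l⁻¹ ∈ E₀
          rw [h1]; exact hc₀
    obtain ⟨q, hq, hk⟩ := exists_sylow_part (K := KY) (N := N₀) (fun x hx hodd => by
      refine mem_subgroupOf.2 (mem_centralizer_iff.2 fun l hl => ?_)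
      exact (stab_centralizes le_rfl (hE₀B₀.trans hB₀L) hLsq (mem_subgroupOf.1 hx)
        (by rwa [orderOf_coe]) hl).symm) PB ha₀N
    have hqs : (q : G) * s = s * q := by
      rw [← hPBeq, mem_subgroupOf] at hq
      have hle : B ⊔ L ≤ centralizer {s} := by
        refine sup_le (fun b hb => mem_centralizer_singleton_iff.2 (hBs b hb)) fun l hl => ?_
        rw [mem_centralizer_singleton_iff]
        rcases mem_adjoin.1 hl with hl | hl
        · exact (hEc l hl).symm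
        · have hle : l = l * s * s := by rw [mul_assoc, hs1, mul_one]
          calc l * s = (l * s) * 1 := (mul_one _).symm
            _ = (l * s) * s * s := by rw [mul_assoc (l * s) s s, hs1]
            _ = s * (l * s) * s := by rw [hEc _ hl]
            _ = s * l * (s * s) := by group
            _ = s * l := by rw [hs1, mul_one]
      exact mem_centralizer_singleton_iff.1 (hle hq)
    have hks : ((q⁻¹ * ⟨a₀, hAY ha₀⟩ : ↥Y) : G) * s = s * ((q⁻¹ * ⟨a₀, hAY ha₀⟩ : ↥Y) : G) :=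
      (mem_centralizer_iff.1 (mem_subgroupOf.1 hk) s self_mem_adjoin).symm
    have has : a₀ * s = s * a₀ := by
      have := (show Commute (q : G) s from hqs).mul_left
        (show Commute ((q⁻¹ * ⟨a₀, hAY ha₀⟩ : ↥Y) : G) s from hks)
      rw [Subgroup.coe_mul, InvMemClass.coe_inv, mul_inv_cancel_left] at this
      exact this
    refine hc₀1 ?_
    rw [← has, mul_inv_cancel_right, hsq a₀ ha₀]

/-- `A` is strongly closed, in the form needed for the induction. -/
theorem TypeQ.closed [Finite G] (h : TypeQ G) {A : Subgroup G} (hAc : IsMulCommutative ↥A)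
    (hA64 : Nat.card ↥A = 64) (Q : Subgroup G) (hQ : IsPGroup 2 Q) (hAQ : A ≤ Q) (a : G)
    (ha : a ∈ A) (g : G) (hg : g * a * g⁻¹ ∈ Q) : g * a * g⁻¹ ∈ A := by
  haveI : Fact (Nat.Prime 2) := ⟨Nat.prime_two⟩
  obtain ⟨S, hS⟩ := hQ.exists_le_sylow
  exact h.not_conj S (hAQ.trans hS) hAc hA64 ha (hS hg)

end Cfsg.Agent.H34.M24Q
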