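import Mathlib
import Cfsg.Agent.Cores.GlaubermanZStar
import Cfsg.Agent.H26.Invol
import Cfsg.Agent.S0205
import Cfsg.Agent.S0217

/-!
An elementary abelian 2-subgroup `A`, closed in every 2-subgroup containing it, whose automizer has
order dividing 168 and in which odd order automorphisms move at least a sixteenfold part, is normal
modulo the odd core.
-/

set_option autoImplicit false

namespace Cfsg.Agent.H34.M24Q

open Cfsg Subgroup

universe u

/-- the hypothesis on `A` -/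
structure Cond {X : Type*} [Group X] (A : Subgroup X) : Prop where
  comm : ∀ a ∈ A, ∀ b ∈ A, a * b = b * a
  sq : ∀ a ∈ A, a * a = 1
  closed : ∀ Q : Subgroup X, IsPGroup 2 Q → A ≤ Q →
    ∀ a ∈ A, ∀ g : X, g * a * g⁻¹ ∈ Q → g * a * g⁻¹ ∈ A
  fixBound : ∀ x ∈ normalizer (A : Set X), Odd (orderOf x) → (∃ a ∈ A, x * a * x⁻¹ ≠ a) →
    16 * Nat.card ↥(A ⊓ centralizer {x}) ≤ Nat.card A
  autom : ∀ K : Subgroup X, K ≤ normalizer (A : Set X) →
    (centralizer (A : Set X)).relIndex K ∣ 168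

/-- the odd core of a subgroup, as a subgroup of the whole group -/
def coreIn {X : Type*} [Group X] (H : Subgroup X) : Subgroup X :=
  (oddCore ↥H).map H.subtype

section tools

variable {X : Type*} [Group X]

theorem coreIn_le (H : Subgroup X) : coreIn H ≤ H := map_subtype_le _

theorem coreIn_normal {H : Subgroup X} {h k : X} (hh : h ∈ H) (hk : k ∈ coreIn H) :
    h * k * h⁻¹ ∈ coreIn H := by
  haveI : (oddCore ↥H).Characteristic := Cores.pPrimeCore_characteristic
  obtain ⟨k, hk, rfl⟩ := hk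
  exact ⟨⟨h, hh⟩ * k * ⟨h, hh⟩⁻¹, Normal.conj_mem inferInstance k hk _, rfl⟩

theorem odd_coreIn [Finite X] (H : Subgroup X) : Odd (Nat.card ↥(coreIn H)) := by
  rw [coreIn, card_map_of_injective H.subtype_injective]
  exact Cores.odd_card_oddCore

theorem le_coreIn {H K : Subgroup X} (hKH : K ≤ H) (hodd : Odd (Nat.card K))
    (hn : ∀ h ∈ H, ∀ k ∈ K, h * k * h⁻¹ ∈ K) : K ≤ coreIn H := by
  haveI : (K.subgroupOf H).Normal := ⟨fun k hk h => hn h.1 h.2 k.1 hk⟩
  have hle : K.subgroupOf H ≤ oddCore ↥H := Cores.le_oddCore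
    (by rwa [Nat.card_congr (subgroupOfEquivOfLe hKH).toEquiv])
  exact fun k hk => ⟨⟨k, hKH hk⟩, hle hk, rfl⟩

theorem odd_orderOf_of_mem [Finite X] {K : Subgroup X} (hK : Odd (Nat.card K)) {x : X}
    (hx : x ∈ K) : Odd (orderOf x) := by
  refine hK.of_dvd_nat ?_
  rw [← orderOf_mk x hx]
  exact orderOf_dvd_natCard _

theorem eq_one_of_sq_mem_odd [Finite X] {K : Subgroup X} (hK : Odd (Nat.card K)) {x : X}
    (hx : x ∈ K) (h : x * x = 1) : x = 1 :=
  Cores.eq_one_of_sq_of_odd (odd_orderOf_of_mem hK hx) (by rw [pow_two, h])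

theorem odd_card_sup [Finite X] {H K L : Subgroup X} (hKH : K ≤ H) (hLH : L ≤ H)
    (hn : ∀ h ∈ H, ∀ k ∈ K, h * k * h⁻¹ ∈ K) (hK : Odd (Nat.card K)) (hL : Odd (Nat.card L)) :
    Odd (Nat.card ↥(K ⊔ L)) := by
  haveI : (K.subgroupOf H).Normal := ⟨fun k hk h => hn h.1 h.2 k.1 hk⟩
  have h1 := Cores.card_sup_dvd (L.subgroupOf H) (K.subgroupOf H)
  rw [Nat.card_congr (subgroupOfEquivOfLe hKH).toEquiv,
    Nat.card_congr (subgroupOfEquivOfLe hLH).toEquiv, ← subgroupOf_sup hLH hKH,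
    Nat.card_congr (subgroupOfEquivOfLe (sup_le hLH hKH)).toEquiv, sup_comm] at h1
  exact (hL.mul hK).of_dvd_nat h1

theorem card_map_mul_card_inf_ker {Y : Type*} [Group Y] (f : X →* Y) (H : Subgroup X) :
    Nat.card ↥(H.map f) * Nat.card ↥(H ⊓ f.ker) = Nat.card H := by
  have h1 := card_mul_index (f.domRestrict H).ker
  rw [index_ker, MonoidHom.ker_domRestrict, MonoidHom.domRestrict_range,
    ← inf_subgroupOf_left, Nat.card_congr (subgroupOfEquivOfLe inf_le_left).toEquiv, mul_comm] at h1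
  exact h1

end tools

variable {X : Type u} [Group X] [Finite X] {A : Subgroup X}

theorem Cond.two_group (h : Cond A) : IsPGroup 2 A := fun a =>
  ⟨1, Subtype.ext (by rw [pow_one, SubgroupClass.coe_pow, pow_two]; exact h.sq a a.2)⟩

omit [Finite X] in
theorem Cond.le_centralizer (h : Cond A) {a : X} (ha : a ∈ A) : A ≤ centralizer ({a} : Set X) :=
  fun b hb => mem_centralizer_singleton_iff.2 (h.comm b hb a ha)

theorem Cond.le_normalizer_of_two (h : Cond A) {Q : Subgroup X} (hQ : IsPGroup 2 Q) (hA : A ≤ Q) :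
    Q ≤ normalizer (A : Set X) := by
  refine fun g hg => mem_normalizer_iff.2 fun a => ⟨fun ha => ?_, fun ha => ?_⟩
  · exact h.closed Q hQ hA a ha g (mul_mem (mul_mem hg (hA ha)) (inv_mem hg))
  · have h2 := h.closed Q hQ hA _ ha g⁻¹ (by
      rw [show g⁻¹ * (g * a * g⁻¹) * g⁻¹⁻¹ = a by group]
      have := mul_mem (mul_mem (inv_mem hg) (hA ha)) hg
      rwa [show g⁻¹ * (g * a * g⁻¹) * g = a by group] at this)
    rwa [show g⁻¹ * (g * a * g⁻¹) * g⁻¹⁻¹ = a by group] at h2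

/-- a conjugate of an element of `A` in a subgroup containing `A` is conjugate there into `A` -/
theorem Cond.conj_mem_of_subgroup (h : Cond A) {H : Subgroup X} (hAH : A ≤ H) {a g : X}
    (ha : a ∈ A) (hs : g * a * g⁻¹ ∈ H) : ∃ k ∈ H, k * (g * a * g⁻¹) * k⁻¹ ∈ A := by
  haveI : Fact (Nat.Prime 2) := ⟨Nat.prime_two⟩
  set s : X := g * a * g⁻¹ with hsdef
  have h2 : s * s = 1 := by
    rw [hsdef, show g * a * g⁻¹ * (g * a * g⁻¹) = g * (a * a) * g⁻¹ by group, h.sq a ha]; simp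
  have hz : IsPGroup 2 (zpowers (⟨s, hs⟩ : H)) := by
    rintro ⟨x, hx⟩
    obtain ⟨n, rfl⟩ := mem_zpowers_iff.1 hx
    refine ⟨1, Subtype.ext ?_⟩
    show ((⟨s, hs⟩ : H) ^ n) ^ (2 ^ 1) = 1
    rw [pow_one, ← zpow_natCast, ← zpow_mul, mul_comm, zpow_mul, zpow_natCast, pow_two]
    rw [show ((⟨s, hs⟩ : H) * ⟨s, hs⟩) = 1 from Subtype.ext h2, one_zpow]
  obtain ⟨T₁, hT₁⟩ := hz.exists_le_sylow
  obtain ⟨T₂, hT₂⟩ := (h.two_group.of_equiv (subgroupOfEquivOfLe hAH).symm).exists_le_sylow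
  obtain ⟨k, hk⟩ := MulAction.exists_smul_eq H T₁ T₂
  refine ⟨k.1, k.2, ?_⟩
  have hm : k * ⟨s, hs⟩ * k⁻¹ ∈ (T₂ : Subgroup H) := by
    rw [← hk, Sylow.coe_subgroup_smul]
    exact ⟨_, hT₁ (mem_zpowers _), rfl⟩
  have := h.closed ((T₂ : Subgroup H).map H.subtype) (T₂.isPGroup'.map _)
    (fun b hb => ⟨⟨b, hAH hb⟩, hT₂ hb, rfl⟩) a ha (k.1 * g) ⟨_, hm, by
      simp only [hsdef, map_mul, map_inv, coe_subtype]; group⟩
  rwa [show (k : X) * g * a * ((k : X) * g)⁻¹ = k * s * (k : X)⁻¹ by rw [hsdef]; group] at this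

theorem Cond.fused_in_normalizer (h : Cond A) {a g : X} (ha : a ∈ A) (hb : g * a * g⁻¹ ∈ A) :
    ∃ n ∈ normalizer (A : Set X), n * a * n⁻¹ = g * a * g⁻¹ := by
  haveI : Fact (Nat.Prime 2) := ⟨Nat.prime_two⟩
  set b := g * a * g⁻¹ with hbdef
  set H := centralizer ({b} : Set X)
  let B : Subgroup X := A.map (MulAut.conj g).toMonoidHom
  have hAH : A ≤ H := h.le_centralizer hb
  have hBH : B ≤ H := by
    rintro _ ⟨x, hx, rfl⟩
    rw [mem_centralizer_singleton_iff, MulEquiv.coe_toMonoidHom, MulAut.conj_apply, hbdef,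
      show g * x * g⁻¹ * (g * a * g⁻¹) = g * (x * a) * g⁻¹ by group, h.comm x hx a ha]
    group
  obtain ⟨T₁, hT₁⟩ := ((h.two_group.map _).of_equiv (subgroupOfEquivOfLe hBH).symm :
    IsPGroup 2 (B.subgroupOf H)).exists_le_sylow
  obtain ⟨T₂, hT₂⟩ := (h.two_group.of_equiv (subgroupOfEquivOfLe hAH).symm).exists_le_sylow
  obtain ⟨k, hk⟩ := MulAction.exists_smul_eq H T₁ T₂
  have hQ : IsPGroup 2 ((T₂ : Subgroup H).map H.subtype) := T₂.isPGroup'.map _
  have hAQ : A ≤ (T₂ : Subgroup H).map H.subtype := fun x hx => ⟨⟨x, hAH hx⟩, hT₂ hx, rfl⟩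
  have hin : ∀ x ∈ A, (k.1 * g) * x * (k.1 * g)⁻¹ ∈ A := by
    intro x hx
    refine h.closed _ hQ hAQ x hx _ ?_
    have hxB : (⟨g * x * g⁻¹, hBH ⟨x, hx, rfl⟩⟩ : H) ∈ (T₁ : Subgroup H) := hT₁ ⟨x, hx, rfl⟩
    refine ⟨k * ⟨g * x * g⁻¹, hBH ⟨x, hx, rfl⟩⟩ * k⁻¹, ?_, ?_⟩
    · rw [SetLike.mem_coe, ← hk, Sylow.coe_subgroup_smul]
      exact ⟨_, hxB, rfl⟩
    · simp only [map_mul, map_inv, coe_subtype]; group
  refine ⟨k.1 * g, mem_normalizer_fintype hin, ?_⟩
  rw [show k.1 * g * a * (k.1 * g)⁻¹ = k.1 * b * k.1⁻¹ by rw [hbdef]; group,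
    mem_centralizer_singleton_iff.1 k.2, mul_inv_cancel_right]

theorem Cond.subgroup (h : Cond A) {H : Subgroup X} (hAH : A ≤ H) : Cond (A.subgroupOf H) where
  comm a ha b hb := Subtype.ext (h.comm a ha b hb)
  sq a ha := Subtype.ext (h.sq a ha)
  closed Q hQ hAQ a ha g hg :=
    h.closed (Q.map H.subtype) (hQ.map _) (fun b hb => ⟨⟨b, hAH hb⟩, hAQ hb, rfl⟩) a.1 ha g.1
      ⟨_, hg, rfl⟩
  fixBound x hx hodd hmove := by
    have e : Nat.card ↥(A.subgroupOf H ⊓ centralizer {x}) = Nat.card ↥(A ⊓ centralizer {(x : X)}) := by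
      rw [← card_map_of_injective H.subtype_injective]
      congr 2
      ext y
      constructor
      · rintro ⟨z, ⟨hz1, hz2⟩, rfl⟩
        exact ⟨hz1, mem_centralizer_singleton_iff.2
          (congrArg Subtype.val (mem_centralizer_singleton_iff.1 hz2))⟩
      · rintro ⟨hy1, hy2⟩
        exact ⟨⟨y, hAH hy1⟩, ⟨hy1, mem_centralizer_singleton_iff.2
          (Subtype.ext (mem_centralizer_singleton_iff.1 hy2))⟩, rfl⟩
    rw [e, Nat.card_congr (subgroupOfEquivOfLe hAH).toEquiv]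
    obtain ⟨a, ha, hne⟩ := hmove
    refine h.fixBound x.1 ?_ (by rwa [orderOf_coe]) ⟨a.1, ha, fun he => hne (Subtype.ext he)⟩
    refine mem_normalizer_fintype fun b hb => ?_
    exact (mem_normalizer_iff.1 hx ⟨b, hAH hb⟩).1 hb
  autom K hK := by
    have e : centralizer ((A.subgroupOf H : Subgroup H) : Set H) =
        (centralizer (A : Set X)).comap H.subtype := by
      ext y
      rw [Subgroup.mem_comap, mem_centralizer_iff, mem_centralizer_iff]
      exact ⟨fun hy b hb => congrArg Subtype.val (hy ⟨b, hAH hb⟩ hb),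
        fun hy b hb => Subtype.ext (hy b.1 hb)⟩
    rw [e, relIndex_comap]
    refine h.autom _ ?_
    rintro _ ⟨k, hk, rfl⟩
    exact mem_normalizer_fintype fun b hb => (mem_normalizer_iff.1 (hK hk) ⟨b, hAH hb⟩).1 hb

/-- conjugates of `A` by elements normalising `A` modulo an odd normal subgroup -/
theorem Cond.exists_lift_odd (h : Cond A) {Y : Type*} [Group Y] (f : X →* Y)
    (hker : Odd (Nat.card f.ker)) {n : X} (hn : ∀ a ∈ A, f (n * a * n⁻¹) ∈ A.map f) :
    ∃ k ∈ f.ker, k * n ∈ normalizer (A : Set X) := by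
  haveI : Fact (Nat.Prime 2) := ⟨Nat.prime_two⟩
  set M := (A.map f).comap f
  have hAM : A ≤ M := le_comap_map f A
  let B : Subgroup X := A.map (MulAut.conj n).toMonoidHom
  have hBM : B ≤ M := by rintro _ ⟨a, ha, rfl⟩; exact hn a ha
  obtain ⟨T₂, hT₂⟩ := (h.two_group.of_equiv (subgroupOfEquivOfLe hAM).symm).exists_le_sylow
  have hinj : ∀ x ∈ ((T₂ : Subgroup M).map M.subtype : Subgroup X), f x = 1 → x = 1 := by
    intro x hx hfx
    obtain ⟨j, hj⟩ := (T₂.isPGroup'.map M.subtype) ⟨x, hx⟩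
    have hj' : x ^ 2 ^ j = 1 := congrArg Subtype.val hj
    exact orderOf_eq_one_iff.1 (Nat.eq_one_of_dvd_coprimes
      ((Nat.coprime_two_right.2 (odd_orderOf_of_mem hker (MonoidHom.mem_ker.2 hfx))).pow_right j).symm
      (orderOf_dvd_of_pow_eq_one hj') dvd_rfl)
  have hT : (T₂ : Subgroup M).map M.subtype = A := by
    refine le_antisymm (fun x hx => ?_) fun a ha => ⟨⟨a, hAM ha⟩, hT₂ ha, rfl⟩
    obtain ⟨a, ha, hax⟩ : f x ∈ A.map f := by
      obtain ⟨y, -, rfl⟩ := hx; exact y.2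
    have := hinj (a⁻¹ * x) (mul_mem (inv_mem ⟨⟨a, hAM ha⟩, hT₂ ha, rfl⟩) hx)
      (by rw [map_mul, map_inv, hax, inv_mul_cancel])
    rwa [← inv_mul_eq_one.1 this]
  obtain ⟨T₁, hT₁⟩ := ((h.two_group.map _).of_equiv (subgroupOfEquivOfLe hBM).symm :
    IsPGroup 2 (B.subgroupOf M)).exists_le_sylow
  obtain ⟨m, hm⟩ := MulAction.exists_smul_eq M T₁ T₂
  obtain ⟨c, hc, hcm⟩ : f m.1 ∈ A.map f := m.2
  have hc' : c ∈ A := hc
  refine ⟨c⁻¹ * m.1, by rw [MonoidHom.mem_ker, map_mul, map_inv, hcm, inv_mul_cancel],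
    mem_normalizer_fintype fun a ha => ?_⟩
  have hxB : (⟨n * a * n⁻¹, hBM ⟨a, ha, rfl⟩⟩ : M) ∈ (T₁ : Subgroup M) := hT₁ ⟨a, ha, rfl⟩
  have h3 : (m : X) * (n * a * n⁻¹) * (m : X)⁻¹ ∈ A := by
    rw [← hT]
    refine ⟨m * ⟨n * a * n⁻¹, hBM ⟨a, ha, rfl⟩⟩ * m⁻¹, ?_, rfl⟩
    rw [SetLike.mem_coe, ← hm, Sylow.coe_subgroup_smul]
    exact ⟨_, hxB, rfl⟩
  have e : c⁻¹ * m.1 * n * a * (c⁻¹ * m.1 * n)⁻¹ = c⁻¹ * ((m : X) * (n * a * n⁻¹) * (m : X)⁻¹) * c := by
    group
  rw [e]
  exact mul_mem (mul_mem (inv_mem hc') h3) hc'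

/-- passage to a quotient by an odd normal subgroup or a central subgroup inside `A` -/
theorem Cond.map (h : Cond A) {Y : Type*} [Group Y] [Finite Y] (f : X →* Y)
    (hf : Function.Surjective f)
    (hker : Odd (Nat.card f.ker) ∨ (f.ker ≤ A ∧ f.ker ≤ center X)) : Cond (A.map f) := by
  haveI : Fact (Nat.Prime 2) := ⟨Nat.prime_two⟩
  have hlift : ∀ n : X, f n ∈ normalizer ((A.map f : Subgroup Y) : Set Y) →
      ∃ n' ∈ normalizer (A : Set X), f n' = f n := by
    intro n hn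
    have hn' : ∀ a ∈ A, f (n * a * n⁻¹) ∈ A.map f := fun a ha => by
      rw [map_mul, map_mul, map_inv]
      exact (mem_normalizer_iff.1 hn (f a)).1 ⟨a, ha, rfl⟩
    rcases hker with hk | ⟨hkA, -⟩
    · obtain ⟨k, hk, hkn⟩ := h.exists_lift_odd f hk hn'
      exact ⟨k * n, hkn, by rw [map_mul, MonoidHom.mem_ker.1 hk, one_mul]⟩
    · refine ⟨n, mem_normalizer_fintype fun a ha => ?_, rfl⟩
      obtain ⟨b, hb, hbe⟩ := hn' a ha
      have := hkA (show b⁻¹ * (n * a * n⁻¹) ∈ f.ker by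
        rw [MonoidHom.mem_ker, map_mul, map_inv, hbe, inv_mul_cancel])
      simpa using mul_mem hb this
  refine ⟨?_, ?_, ?_, ?_, ?_⟩
  · rintro _ ⟨a, ha, rfl⟩ _ ⟨b, hb, rfl⟩
    rw [← map_mul, ← map_mul, h.comm a ha b hb]
  · rintro _ ⟨a, ha, rfl⟩
    rw [← map_mul, h.sq a ha, map_one]
  · rintro Q hQ hAQ _ ⟨a, ha, rfl⟩ gq hg
    obtain ⟨g, rfl⟩ := hf gq
    rw [← map_inv, ← map_mul, ← map_mul] at hg ⊢
    rcases hker with hk | ⟨hkA, -⟩
    · obtain ⟨T, hT⟩ := (h.two_group.of_equiv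
        (subgroupOfEquivOfLe (map_le_iff_le_comap.1 hAQ)).symm).exists_le_sylow
      let fQ : ↥(Q.comap f) →* ↥Q := f.subgroupComap Q
      have hfQ : Function.Surjective fQ := f.subgroupComap_surjective_of_surjective Q hf
      have hTm : (T : Subgroup (Q.comap f)).map fQ = ⊤ := by
        let T' := T.mapSurjective hfQ
        have : (T' : Subgroup Q) = ⊤ :=
          (T'.3 (Q := ⊤) (by simpa using hQ.of_equiv topEquiv.symm) le_top).symm
        simpa [T', Sylow.coe_mapSurjective] using this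
      obtain ⟨p, hp⟩ := h.conj_mem_of_subgroup (map_le_iff_le_comap.1 hAQ) ha hg
      obtain ⟨t, ht, hte⟩ : fQ ⟨p, hp.1⟩ ∈ (T : Subgroup (Q.comap f)).map fQ := by rw [hTm]; trivial
      have htT : t.1 ∈ (T : Subgroup (Q.comap f)).map (Q.comap f).subtype := ⟨t, ht, rfl⟩
      have hAT : A ≤ (T : Subgroup (Q.comap f)).map (Q.comap f).subtype :=
        fun b hb => ⟨⟨b, map_le_iff_le_comap.1 hAQ hb⟩, hT hb, rfl⟩
      have hte' : f t.1 = f p := congrArg Subtype.val hte
      set k := t.1⁻¹ * p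
      have hk1 : f k = 1 := by rw [map_mul, map_inv, hte', inv_mul_cancel]
      have := h.closed _ (T.isPGroup'.map _) hAT a ha (k * g) (by
        have e : k * g * a * (k * g)⁻¹ = t.1⁻¹ * (p * (g * a * g⁻¹) * p⁻¹) * t.1 := by
          simp only [k]; group
        rw [e]
        exact mul_mem (mul_mem (inv_mem htT) (hAT hp.2)) htT)
      refine ⟨_, this, ?_⟩
      simp only [map_mul, map_inv, hk1, one_mul]
    · refine ⟨_, h.closed (Q.comap f) (hQ.comap_of_ker_isPGroup f ?_) (map_le_iff_le_comap.1 hAQ)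
        a ha g hg, rfl⟩
      exact h.two_group.to_le hkA
  · intro xq hxq hodd hmove
    obtain ⟨x₀, rfl⟩ := hf xq
    obtain ⟨x₁, hx₁, hfx₁⟩ := hlift x₀ hxq
    rw [← hfx₁] at hxq hodd hmove ⊢
    set m := orderOf (f x₁) with hm
    have hxm : x₁ ^ m ∈ f.ker := by rw [MonoidHom.mem_ker, map_pow, hm, pow_orderOf_eq_one]
    obtain ⟨x, hx, hfx, hxo⟩ : ∃ x ∈ normalizer (A : Set X), f x = f x₁ ∧ Odd (orderOf x) := by
      rcases hker with hk | ⟨hkA, hkc⟩
      · refine ⟨x₁, hx₁, rfl, ?_⟩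
        refine (hodd.mul hk).of_dvd_nat (orderOf_dvd_of_pow_eq_one ?_)
        rw [pow_mul]
        exact congrArg Subtype.val (pow_card_eq_one' (x := (⟨_, hxm⟩ : f.ker)))
      · have hz : x₁ ^ m * x₁ ^ m = 1 := h.sq _ (hkA hxm)
        have hzN : x₁ ^ m ∈ normalizer (A : Set X) := pow_mem hx₁ m
        refine ⟨x₁ * x₁ ^ m, mul_mem hx₁ hzN,
          by rw [map_mul, MonoidHom.mem_ker.1 hxm, mul_one], hodd.of_dvd_nat ?_⟩
        refine orderOf_dvd_of_pow_eq_one ?_
        rw [(show Commute x₁ (x₁ ^ m) from Commute.self_pow _ _).mul_pow]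
        obtain ⟨j, hj⟩ := hodd
        have h2 : (x₁ ^ m) ^ m = x₁ ^ m := by
          rw [show (x₁ ^ m) ^ m = (x₁ ^ m) ^ (2 * j + 1) by rw [← hj], pow_succ, pow_mul, pow_two,
            hz, one_pow, one_mul]
        rw [h2, hz]
    rw [← hfx] at hxq hmove ⊢
    have hmove' : ∃ a ∈ A, x * a * x⁻¹ ≠ a := by
      obtain ⟨_, ⟨a, ha, rfl⟩, hne⟩ := hmove
      exact ⟨a, ha, fun he => hne (by rw [← map_inv, ← map_mul, ← map_mul, he])⟩
    have hK : A ⊓ f.ker ≤ A ⊓ centralizer {x} := by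
      rintro b ⟨hb, hbk⟩
      refine ⟨hb, mem_centralizer_singleton_iff.2 ?_⟩
      rcases hker with hk | ⟨-, hkc⟩
      · rw [eq_one_of_sq_mem_odd hk hbk (h.sq b hb)]; simp
      · exact (mem_center_iff.1 (hkc hbk) x).symm
    have hC : A.map f ⊓ centralizer {f x} = (A ⊓ centralizer {x}).map f := by
      refine le_antisymm ?_ ?_
      · rintro _ ⟨⟨a, ha, rfl⟩, hc⟩
        refine ⟨a, ⟨ha, mem_centralizer_singleton_iff.2 ?_⟩, rfl⟩
        have hca := mem_centralizer_singleton_iff.1 hc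
        set z := x * a * x⁻¹ * a⁻¹ with hz
        have hzA : z ∈ A := mul_mem ((mem_normalizer_iff.1 hx a).1 ha) (inv_mem ha)
        have hzk : f z = 1 := by
          rw [hz, map_mul, map_mul, map_mul, map_inv, map_inv, ← hca, mul_inv_cancel_right,
            mul_inv_cancel]
        have hzx := mem_centralizer_singleton_iff.1 (hK ⟨hzA, MonoidHom.mem_ker.2 hzk⟩).2
        have key : ∀ n : ℕ, x ^ n * a * (x ^ n)⁻¹ = z ^ n * a := by
          intro n
          induction n with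
          | zero => simp
          | succ n ih =>
            have hc' : Commute (z ^ n) x := (show Commute z x from hzx).pow_left n
            calc x ^ (n + 1) * a * (x ^ (n + 1))⁻¹ = x * (x ^ n * a * (x ^ n)⁻¹) * x⁻¹ := by group
              _ = x * z ^ n * a * x⁻¹ := by rw [ih]; group
              _ = z ^ n * x * a * x⁻¹ := by rw [hc'.eq]
              _ = z ^ n * (x * a * x⁻¹ * a⁻¹) * a := by group
              _ = z ^ (n + 1) * a := by rw [← hz, pow_succ]
        have h1 := key (orderOf x)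
        rw [pow_orderOf_eq_one, inv_one, mul_one, one_mul] at h1
        obtain ⟨j, hj⟩ := hxo
        have hz1 : z = 1 := by
          have h1' : z ^ orderOf x = 1 := by simpa using h1.symm
          rwa [hj, pow_succ, pow_mul, pow_two, h.sq z hzA, one_pow, one_mul] at h1'
        rw [hz, mul_inv_eq_one, mul_inv_eq_iff_eq_mul] at hz1
        exact hz1.symm
      · rintro _ ⟨a, ⟨ha, hc⟩, rfl⟩
        refine ⟨⟨a, ha, rfl⟩, mem_centralizer_singleton_iff.2 ?_⟩
        rw [← map_mul, mem_centralizer_singleton_iff.1 hc, map_mul]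
    have e1 := card_map_mul_card_inf_ker f A
    have e2 := card_map_mul_card_inf_ker f (A ⊓ centralizer {x})
    rw [show A ⊓ centralizer {x} ⊓ f.ker = A ⊓ f.ker from
      le_antisymm (inf_le_inf_right _ inf_le_left) (le_inf hK inf_le_right), ← hC] at e2
    have := h.fixBound x hx hxo hmove'
    rw [← e1, ← e2, ← mul_assoc] at this
    exact Nat.le_of_mul_le_mul_right this Nat.card_pos
  · intro K hK
    let K' := normalizer (A : Set X) ⊓ K.comap f
    have hKm : K'.map f = K := by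
      refine le_antisymm (map_le_iff_le_comap.2 inf_le_right) fun y hy => ?_
      obtain ⟨n, rfl⟩ := hf y
      obtain ⟨n', hn', he⟩ := hlift n (hK hy)
      exact ⟨n', ⟨hn', show f n' ∈ K by rw [he]; exact hy⟩, he⟩
    rw [← hKm, ← relIndex_comap]
    refine (relIndex_dvd_of_le_left _ ?_).trans (h.autom K' inf_le_left)
    intro c hc
    rw [Subgroup.mem_comap, mem_centralizer_iff]
    rintro _ ⟨a, ha, rfl⟩
    rw [← map_mul, ← map_mul, mem_centralizer_iff.1 hc a ha]

/-- the conclusion for all groups of order less than `n` -/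
def Below (n : ℕ) : Prop :=
  ∀ (Y : Type u) [Group Y] [Finite Y], Nat.card Y < n → ∀ B : Subgroup Y,
    Cond B → oddCore Y = ⊥ → B.Normal

theorem Cond.normal_sup_of (h : Cond A) {n : ℕ} (IH : Below.{u} n) (hn : Nat.card X < n) :
    (A ⊔ oddCore X).Normal := by
  haveI : (oddCore X).Characteristic := Cores.pPrimeCore_characteristic
  have hq := Cores.pPrimeCore_quotient_pPrimeCore (p := 2) (G := X)
  have hc := h.map (QuotientGroup.mk' (oddCore X)) (QuotientGroup.mk'_surjective _)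
    (Or.inl (by rw [QuotientGroup.ker_mk']; exact Cores.odd_card_oddCore))
  have := IH (X ⧸ oddCore X) (lt_of_le_of_lt
    (Nat.card_le_card_of_surjective _ (QuotientGroup.mk'_surjective (oddCore X))) hn) _ hc hq
  have h2 := this.comap (QuotientGroup.mk' (oddCore X))
  rwa [comap_map_eq, QuotientGroup.ker_mk'] at h2

theorem Cond.local_normal (h : Cond A) {n : ℕ} (IH : Below.{u} n) {H : Subgroup X} (hAH : A ≤ H)
    (hn : Nat.card H < n) : ∀ g ∈ H, ∀ a ∈ A, g * a * g⁻¹ ∈ A ⊔ coreIn H := by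
  have hN := (h.subgroup hAH).normal_sup_of IH hn
  intro g hg a ha
  have hm := hN.conj_mem ⟨a, hAH ha⟩ (mem_sup_left ha) ⟨g, hg⟩
  have := mem_map_of_mem H.subtype hm
  rwa [Subgroup.map_sup, map_subgroupOf_eq_of_le hAH] at this

theorem exists_mul_of_mem_sup {H : Subgroup X} (hAH : A ≤ H) {x : X} (hx : x ∈ A ⊔ coreIn H) :
    ∃ a ∈ A, ∃ k ∈ coreIn H, x = a * k := by
  have hn : A ≤ normalizer (coreIn H : Set X) := fun a ha =>
    mem_normalizer_fintype fun k hk => coreIn_normal (hAH ha) hk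
  rw [← SetLike.mem_coe, coe_mul_of_left_le_normalizer_right _ _ hn] at hx
  obtain ⟨a, ha, k, hk, rfl⟩ := hx
  exact ⟨a, ha, k, hk, rfl⟩

theorem Cond.mem_coreIn_of_odd (h : Cond A) {H : Subgroup X} (hAH : A ≤ H) {x : X}
    (hx : x ∈ A ⊔ coreIn H) (hodd : Odd (orderOf x)) : x ∈ coreIn H := by
  obtain ⟨a, ha, k, hk, rfl⟩ := exists_mul_of_mem_sup hAH hx
  refine Cores.mem_of_pow_two_mem_of_odd hodd ?_
  have hai : a⁻¹ = a := inv_eq_of_mul_eq_one_right (h.sq a ha)
  rw [pow_two, show a * k * (a * k) = (a * k * a⁻¹) * k by rw [hai]; group]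
  exact mul_mem (coreIn_normal (hAH ha) hk) hk

theorem Cond.frattini (h : Cond A) {n : ℕ} (IH : Below.{u} n) {H : Subgroup X} (hAH : A ≤ H)
    (hn : Nat.card H < n) {g : X} (hg : g ∈ H) :
    ∃ k ∈ coreIn H, k * g ∈ normalizer (A : Set X) := by
  haveI : (oddCore ↥H).Characteristic := Cores.pPrimeCore_characteristic
  set f := QuotientGroup.mk' (oddCore ↥H)
  obtain ⟨k, hk, hkn⟩ := (h.subgroup hAH).exists_lift_odd f
    (by rw [QuotientGroup.ker_mk']; exact Cores.odd_card_oddCore) (n := (⟨g, hg⟩ : H)) fun a ha => by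
      have h1 := h.local_normal IH hAH hn g hg a.1 ha
      rw [← map_subgroupOf_eq_of_le hAH, coreIn, ← Subgroup.map_sup] at h1
      obtain ⟨y, hy, hye⟩ := h1
      have hy' : ⟨g, hg⟩ * a * (⟨g, hg⟩ : H)⁻¹ ∈ A.subgroupOf H ⊔ oddCore ↥H := by
        rwa [show ⟨g, hg⟩ * a * (⟨g, hg⟩ : H)⁻¹ = y from Subtype.ext hye.symm]
      have h2 := mem_map_of_mem f hy'
      rwa [Subgroup.map_sup, (map_eq_bot_iff (oddCore ↥H)).2 (by rw [QuotientGroup.ker_mk']), sup_bot_eq] at h2
  rw [QuotientGroup.ker_mk'] at hk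
  refine ⟨k.1, ⟨k, hk, rfl⟩, mem_normalizer_fintype fun a ha => ?_⟩
  exact (mem_normalizer_iff.1 hkn ⟨a, hAH ha⟩).1 ha

theorem Cond.balance (h : Cond A) {n : ℕ} (IH : Below.{u} n) {a b : X} (ha : a ∈ A) (hb : b ∈ A)
    (hn : Nat.card ↥(centralizer ({b} : Set X)) < n) :
    coreIn (centralizer ({a} : Set X)) ⊓ centralizer ({b} : Set X) ≤
      coreIn (centralizer ({b} : Set X)) := by
  rintro y ⟨hya, hyb⟩
  set H := centralizer ({b} : Set X) with hH
  set Ca := centralizer ({a} : Set X) with hCa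
  have hAH : A ≤ H := h.le_centralizer hb
  have hcom : ∀ a' ∈ A, y * a' * y⁻¹ * a'⁻¹ ∈ coreIn H := by
    intro a' ha'
    refine h.mem_coreIn_of_odd hAH (mul_mem (h.local_normal IH hAH hn y hyb a' ha')
      (mem_sup_left (inv_mem ha'))) (odd_orderOf_of_mem (odd_coreIn Ca) ?_)
    rw [mul_assoc y a' y⁻¹, mul_assoc y (a' * y⁻¹) a'⁻¹]
    exact mul_mem hya (coreIn_normal (h.le_centralizer ha ha') (inv_mem hya))
  obtain ⟨k, hk, hkN⟩ := h.frattini IH hAH hn hyb
  have hc : k * y ∈ centralizer (A : Set X) := by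
    rw [mem_centralizer_iff]
    intro a' ha'
    have h1 : k * y * a' * (k * y)⁻¹ * a'⁻¹ ∈ coreIn H := by
      rw [show k * y * a' * (k * y)⁻¹ * a'⁻¹ =
        k * (y * a' * y⁻¹ * a'⁻¹) * (a' * k⁻¹ * a'⁻¹) by group]
      exact mul_mem (mul_mem hk (hcom a' ha')) (coreIn_normal (hAH ha') (inv_mem hk))
    have h2 := eq_one_of_sq_mem_odd (odd_coreIn H) h1
      (h.sq _ (mul_mem ((mem_normalizer_iff.1 hkN a').1 ha') (inv_mem ha')))
    rw [mul_inv_eq_one, mul_inv_eq_iff_eq_mul] at h2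
    exact h2.symm
  have hCA : ∀ c ∈ centralizer (A : Set X), c ∈ Ca ∧ c ∈ H := fun c hc =>
    ⟨mem_centralizer_singleton_iff.2 (mem_centralizer_iff.1 hc a ha).symm,
      mem_centralizer_singleton_iff.2 (mem_centralizer_iff.1 hc b hb).symm⟩
  set M₀ := coreIn Ca ⊓ H with hM₀
  have hM₀odd : Odd (Nat.card M₀) :=
    (odd_coreIn Ca).of_dvd_nat (card_dvd_of_le inf_le_left)
  have hsup : Odd (Nat.card ↥(coreIn H ⊔ M₀)) :=
    odd_card_sup (coreIn_le H) inf_le_right (fun g hg k hk => coreIn_normal hg hk) (odd_coreIn H)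
      hM₀odd
  have hconj : ∀ c ∈ centralizer (A : Set X), ∀ x ∈ coreIn H ⊔ M₀,
      c * x * c⁻¹ ∈ coreIn H ⊔ M₀ := by
    intro c hc x hx
    have hle : (coreIn H ⊔ M₀).map (MulAut.conj c).toMonoidHom ≤ coreIn H ⊔ M₀ := by
      rw [Subgroup.map_sup]
      refine sup_le_sup ?_ ?_
      · rintro _ ⟨x, hx, rfl⟩; exact coreIn_normal (hCA c hc).2 hx
      · rintro _ ⟨x, hx, rfl⟩
        exact ⟨coreIn_normal (hCA c hc).1 hx.1,
          H.mul_mem (H.mul_mem (hCA c hc).2 hx.2) (H.inv_mem (hCA c hc).2)⟩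
    exact hle ⟨x, hx, rfl⟩
  have hc2 : k * y ∈ coreIn (centralizer (A : Set X)) := by
    refine (le_coreIn (K := centralizer (A : Set X) ⊓ (coreIn H ⊔ M₀)) inf_le_left
      (hsup.of_dvd_nat (card_dvd_of_le inf_le_right)) fun c hc x hx =>
        ⟨(centralizer (A : Set X)).mul_mem ((centralizer (A : Set X)).mul_mem hc hx.1)
          ((centralizer (A : Set X)).inv_mem hc), hconj c hc x hx.2⟩)
      ⟨hc, mul_mem (mem_sup_left hk) (mem_sup_right ⟨hya, hyb⟩)⟩
  have hCle : centralizer (A : Set X) ≤ H := fun c hc => (hCA c hc).2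
  set K₂ := coreIn H ⊔ coreIn (centralizer (A : Set X))
  have hK₂ : K₂ ≤ coreIn H := by
    refine le_coreIn (sup_le (coreIn_le H) ((coreIn_le _).trans hCle))
      (odd_card_sup (coreIn_le H) ((coreIn_le _).trans hCle) (fun g hg k hk => coreIn_normal hg hk)
        (odd_coreIn H) (odd_coreIn _)) fun g hg x hx => ?_
    obtain ⟨k', hk', hkn⟩ := h.frattini IH hAH hn hg
    have hnH : k' * g ∈ H := mul_mem (coreIn_le H hk') hg
    have h1 : K₂.map (MulAut.conj (k' * g)).toMonoidHom ≤ K₂ := by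
      rw [Subgroup.map_sup]
      refine sup_le_sup ?_ ?_
      · rintro _ ⟨x, hx, rfl⟩; exact coreIn_normal hnH hx
      · have hodd : Odd (Nat.card ↥((coreIn (centralizer (A : Set X))).map
            (MulAut.conj (k' * g)).toMonoidHom)) := by
          rw [card_map_of_injective (MulAut.conj (k' * g)).injective]; exact odd_coreIn _
        have hcc : ∀ m ∈ normalizer (A : Set X), ∀ c ∈ centralizer (A : Set X),
            m * c * m⁻¹ ∈ centralizer (A : Set X) := by
          intro m hm c hc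
          rw [mem_centralizer_iff]
          intro a' ha'
          have := mem_centralizer_iff.1 hc (m⁻¹ * a' * m⁻¹⁻¹)
            ((mem_normalizer_iff.1 (inv_mem hm) a').1 ha')
          calc a' * (m * c * m⁻¹) = m * (m⁻¹ * a' * m⁻¹⁻¹ * c) * m⁻¹ := by group
            _ = _ := by rw [this]; group
        refine le_coreIn ?_ hodd ?_
        · rintro _ ⟨x, hx, rfl⟩; exact hcc _ hkn x (coreIn_le _ hx)
        · rintro c hc _ ⟨x, hx, rfl⟩
          refine ⟨((k' * g)⁻¹ * c * ((k' * g)⁻¹)⁻¹) * x * ((k' * g)⁻¹ * c * ((k' * g)⁻¹)⁻¹)⁻¹,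
            coreIn_normal (hcc _ (inv_mem hkn) c hc) hx, ?_⟩
          simp only [MulEquiv.coe_toMonoidHom, MulAut.conj_apply]; group
    have h2 : (k' * g) * x * (k' * g)⁻¹ ∈ K₂ := h1 ⟨x, hx, rfl⟩
    have hk'' : k' ∈ K₂ := mem_sup_left hk'
    rw [show g * x * g⁻¹ = k'⁻¹ * (k' * g * x * (k' * g)⁻¹) * k' by group]
    exact mul_mem (mul_mem (inv_mem hk'') h2) hk''
  have := hK₂ (mem_sup_right hc2)
  simpa using mul_mem (inv_mem hk) this

theorem mem_center_of_centralizer_eq_top {a : X} (h : centralizer ({a} : Set X) = ⊤) :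
    a ∈ center X :=
  mem_center_iff.2 fun g => mem_centralizer_singleton_iff.1 (h ▸ mem_top g)

omit [Finite X] in
theorem card_lt_of_ne_top [Finite X] {H : Subgroup X} (h : H ≠ ⊤) : Nat.card H < Nat.card X :=
  lt_of_le_of_ne (card_le_card_group H) fun e => h (eq_top_of_card_eq H e)

theorem oddCore_quotient_central (hO : oddCore X = ⊥) {z : X} (hz2 : z * z = 1) (hz1 : z ≠ 1)
    (hzc : z ∈ center X) [(zpowers z).Normal] : oddCore (X ⧸ zpowers z) = ⊥ := by
  haveI : Fact (Nat.Prime 2) := ⟨Nat.prime_two⟩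
  have hcardZ : Nat.card (zpowers z) = 2 := by
    rw [Nat.card_zpowers]
    exact orderOf_eq_prime (by rw [pow_two, hz2]) hz1
  set f := QuotientGroup.mk' (zpowers z)
  haveI : (oddCore (X ⧸ zpowers z)).Characteristic := Cores.pPrimeCore_characteristic
  set K := (oddCore (X ⧸ zpowers z)).comap f with hK
  haveI : K.Normal := Normal.comap inferInstance f
  have hZK : zpowers z ≤ K := fun x hx => by
    rw [hK, Subgroup.mem_comap, QuotientGroup.mk'_apply, (QuotientGroup.eq_one_iff x).2 hx]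
    exact one_mem _
  have hcardK : Nat.card K = 2 * Nat.card ↥(oddCore (X ⧸ zpowers z)) := by
    have := card_map_mul_card_inf_ker f K
    rw [hK, map_comap_eq_self_of_surjective (QuotientGroup.mk'_surjective _), ← hK,
      QuotientGroup.ker_mk', inf_eq_right.2 hZK, hcardZ] at this
    omega
  set Z' := (zpowers z).subgroupOf K
  have hZ'c : Nat.card Z' = 2 := by
    rw [Nat.card_congr (subgroupOfEquivOfLe hZK).toEquiv, hcardZ]
  have hidx : Z'.index = Nat.card ↥(oddCore (X ⧸ zpowers z)) := by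
    have := Z'.card_mul_index
    rw [hZ'c, hcardK] at this
    omega
  haveI : Z'.Normal := Normal.subgroupOf inferInstance K
  obtain ⟨C, hC⟩ := exists_right_complement'_of_coprime (N := Z')
    (by rw [hZ'c, hidx]; exact Nat.coprime_two_left.2 Cores.odd_card_oddCore)
  set m := Nat.card ↥(oddCore (X ⧸ zpowers z))
  have hmodd : Odd m := Cores.odd_card_oddCore
  have hCc : Nat.card C = m := by
    have h1 := hC.card_mul
    rw [hZ'c, hcardK] at h1
    omega
  have hchar : ∀ x : K, x ^ m = 1 → x ∈ C := by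
    intro x hx
    obtain ⟨⟨⟨w, hw⟩, ⟨c, hc⟩⟩, rfl⟩ := hC.2 x
    have hwc : Commute w c := Subtype.ext
      (mem_center_iff.1 ((zpowers_le.2 hzc) hw) c.1).symm
    have hw2 : w * w = 1 := Subtype.ext (by
            obtain ⟨i, hi⟩ := mem_zpowers_iff.1 (mem_subgroupOf.1 hw)
            show (w : X) * (w : X) = 1
            rw [← hi, ← zpow_add, ← two_mul, zpow_mul, zpow_two, hz2, one_zpow])
    have hc1 : c ^ m = 1 := by
      rw [← hCc]
      exact congrArg Subtype.val (pow_card_eq_one' (x := (⟨c, hc⟩ : C)))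
    obtain ⟨j, hj⟩ := hmodd
    have hwm : w ^ m = w := by rw [hj, pow_succ, pow_mul, pow_two, hw2, one_pow, one_mul]
    rw [hwc.mul_pow, hc1, mul_one, hwm] at hx
    simpa [hx] using hc
  haveI : (C.map K.subtype).Normal := ⟨fun x hx g => by
    obtain ⟨c, hc, rfl⟩ := hx
    have hc1 : c ^ m = 1 := by
      rw [← hCc]
      exact congrArg Subtype.val (pow_card_eq_one' (x := (⟨c, hc⟩ : C)))
    refine ⟨⟨g * c.1 * g⁻¹, Normal.conj_mem inferInstance c.1 c.2 g⟩, hchar _ (Subtype.ext ?_), rfl⟩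
    have : (c.1 : X) ^ m = 1 := congrArg Subtype.val hc1
    simp [conj_pow, this]⟩
  have hb := Cores.le_oddCore (G := X) (N := C.map K.subtype)
    (by rw [card_map_of_injective K.subtype_injective, hCc]; exact hmodd)
  rw [hO, le_bot_iff, map_eq_bot_iff_of_injective _ K.subtype_injective] at hb
  rw [hb, card_bot] at hCc
  exact eq_bot_of_card_eq _ hCc.symm

/-- a central element of `A` reduces the problem -/
theorem Cond.normal_of_center (h : Cond A) (hO : oddCore X = ⊥) (IH : Below.{u} (Nat.card X))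
    {z : X} (hz : z ∈ A) (hz1 : z ≠ 1) (hzc : z ∈ center X) : A.Normal := by
  haveI : Fact (Nat.Prime 2) := ⟨Nat.prime_two⟩
  haveI hZn : (zpowers z).Normal := ⟨fun x hx g => by
    rw [mem_center_iff.1 ((zpowers_le.2 hzc) hx) g, mul_inv_cancel_right]; exact hx⟩
  set f := QuotientGroup.mk' (zpowers z)
  have hcardZ : Nat.card (zpowers z) = 2 := by
    rw [Nat.card_zpowers]
    exact orderOf_eq_prime (by rw [pow_two, h.sq z hz]) hz1
  have hlt : Nat.card (X ⧸ zpowers z) < Nat.card X := by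
    rw [(zpowers z).card_eq_card_quotient_mul_card_subgroup, hcardZ]
    have := Nat.card_pos (α := X ⧸ zpowers z)
    omega
  have hOY : oddCore (X ⧸ zpowers z) = ⊥ := oddCore_quotient_central hO (h.sq z hz) hz1 hzc
  have hcond := h.map f (QuotientGroup.mk'_surjective _)
    (Or.inr (by rw [QuotientGroup.ker_mk']; exact ⟨zpowers_le.2 hz, zpowers_le.2 hzc⟩))
  have := (IH _ hlt _ hcond hOY).comap f
  rwa [comap_map_eq, QuotientGroup.ker_mk', sup_eq_left.2 (zpowers_le.2 hz)] at this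

theorem Cond.fixed_central (h : Cond A) (hO : oddCore X = ⊥) {a : X} (ha : a ∈ A) (ha1 : a ≠ 1)
    (hfix : ∀ n ∈ normalizer (A : Set X), n * a * n⁻¹ = a) : a ∈ center X := by
  haveI : Fact (Nat.Prime 2) := ⟨Nat.prime_two⟩
  obtain ⟨T, hT⟩ := h.two_group.exists_le_sylow
  have := Cores.glaubermanZStar T (orderOf_eq_prime (by rw [pow_two, h.sq a ha]) ha1) (hT ha)
    fun g hg => by
      obtain ⟨m, hm, he⟩ := h.fused_in_normalizer ha (h.closed T T.isPGroup' hT a ha g hg)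
      rw [← he, hfix m hm]
  rw [mem_center_iff]
  intro g
  have h1 := this g
  rw [hO, mem_bot, mul_inv_eq_one, mul_inv_eq_iff_eq_mul] at h1
  exact h1.symm

theorem Cond.exists_fixed (h : Cond A) (hA : A ≠ ⊥)
    (hodd : ∀ x ∈ normalizer (A : Set X), Odd (orderOf x) → ∀ a ∈ A, x * a * x⁻¹ = a) :
    ∃ a ∈ A, a ≠ 1 ∧ ∀ n ∈ normalizer (A : Set X), n * a * n⁻¹ = a := by
  classical
  haveI : Fact (Nat.Prime 2) := ⟨Nat.prime_two⟩
  let N := normalizer (A : Set X)
  let act : ↥N →* Equiv.Perm ↥A :=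
    { toFun := fun n =>
        { toFun := fun a => ⟨n.1 * a.1 * n.1⁻¹, (mem_normalizer_iff.1 n.2 a.1).1 a.2⟩
          invFun := fun a => ⟨n.1⁻¹ * a.1 * n.1, by
            simpa using (mem_normalizer_iff.1 (inv_mem n.2) a.1).1 a.2⟩
          left_inv := fun a => Subtype.ext (by group)
          right_inv := fun a => Subtype.ext (by group) }
      map_one' := Equiv.ext fun a => Subtype.ext (by simp)
      map_mul' := fun m n => Equiv.ext fun a => Subtype.ext (by simp [mul_assoc]) }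
  have hP : IsPGroup 2 act.range := by
    rintro ⟨_, n, rfl⟩
    have ho : orderOf n ≠ 0 := (orderOf_pos n).ne'
    obtain ⟨m, q, hq, he⟩ := Nat.exists_eq_pow_mul_and_not_dvd ho 2 (by norm_num)
    refine ⟨m, Subtype.ext ?_⟩
    rw [SubgroupClass.coe_pow, OneMemClass.coe_one, ← map_pow]
    refine Equiv.ext fun a => Subtype.ext (hodd (n ^ 2 ^ m).1 (n ^ 2 ^ m).2 ?_ a.1 a.2)
    rw [orderOf_coe, orderOf_pow, he, Nat.gcd_eq_right (dvd_mul_right _ _),
      Nat.mul_div_cancel_left _ (by positivity)]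
    exact Nat.odd_iff.2 (by omega)
  have hA2 : 2 ∣ Nat.card A := by
    obtain ⟨a, ha, ha1⟩ := (A.bot_or_exists_ne_one).resolve_left hA
    rw [← orderOf_eq_prime (x := a) (p := 2) (by rw [pow_two, h.sq a ha]) ha1, ← orderOf_mk a ha]
    exact orderOf_dvd_natCard _
  have h1 : (1 : ↥A) ∈ MulAction.fixedPoints ↥act.range ↥A := by
    rintro ⟨_, n, rfl⟩
    exact Subtype.ext (by simp [act])
  have h2 := hP.exists_fixed_point_of_prime_dvd_card_of_fixed_point (α := ↥A) hA2 h1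
  obtain ⟨b, hb, hb1⟩ := h2
  exact ⟨b.1, b.2, fun e => hb1 (Subtype.ext e).symm,
    fun n hn => congrArg Subtype.val (hb ⟨act ⟨n, hn⟩, ⟨_, rfl⟩⟩)⟩

theorem Cond.not_one_class (h : Cond A) (h16 : 16 ≤ Nat.card A) :
    ∃ a₁ ∈ A, ∃ a₂ ∈ A, a₁ ≠ 1 ∧ a₂ ≠ 1 ∧ ∀ g : X, g * a₁ * g⁻¹ ≠ a₂ := by
  classical
  haveI : Fact (Nat.Prime 2) := ⟨Nat.prime_two⟩
  by_contra hh
  push Not at hh
  have hA : A ≠ ⊥ := fun e => by rw [e, card_bot] at h16; omega
  obtain ⟨a₁, ha₁, ha₁1⟩ := A.bot_or_exists_ne_one.resolve_left hA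
  let N := normalizer (A : Set X)
  let S := {x : X // x ∈ A ∧ x ≠ 1}
  letI : MulAction ↥N S :=
    { smul := fun n x => ⟨n.1 * x.1 * n.1⁻¹, (mem_normalizer_iff.1 n.2 x.1).1 x.2.1,
        fun e => x.2.2 (conj_eq_one_iff.1 e)⟩
      one_smul := fun x => Subtype.ext (by show (1 : X) * x.1 * (1 : X)⁻¹ = x.1; simp)
      mul_smul := fun m n x => Subtype.ext (by
        show (m.1 * n.1) * x.1 * (m.1 * n.1)⁻¹ = m.1 * (n.1 * x.1 * n.1⁻¹) * m.1⁻¹; group) }
  let s₁ : S := ⟨a₁, ha₁, ha₁1⟩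
  have hbase : ∀ y : S, ∃ n : ↥N, n • s₁ = y := fun y => by
    obtain ⟨g, hg⟩ := hh a₁ ha₁ y.1 y.2.1 ha₁1 y.2.2
    obtain ⟨m, hm, he⟩ := h.fused_in_normalizer ha₁ (hg.symm ▸ y.2.1)
    exact ⟨⟨m, hm⟩, Subtype.ext (he.trans hg)⟩
  haveI : MulAction.IsPretransitive ↥N S := ⟨fun x y => by
    obtain ⟨nx, hnx⟩ := hbase x
    obtain ⟨ny, hny⟩ := hbase y
    exact ⟨ny * nx⁻¹, by rw [← hnx, mul_smul, inv_smul_smul, hny]⟩⟩
  have hle : (centralizer (A : Set X)).subgroupOf N ≤ MulAction.stabilizer ↥N s₁ := by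
    intro c hc
    refine Subtype.ext ?_
    show c.1 * a₁ * c.1⁻¹ = a₁
    rw [← mem_centralizer_iff.1 (mem_subgroupOf.1 hc) a₁ ha₁, mul_inv_cancel_right]
  have h168 : Nat.card S ∣ 168 := by
    rw [← MulAction.index_stabilizer_of_transitive ↥N s₁]
    exact (index_dvd_of_le hle).trans (h.autom N le_rfl)
  have hS : Nat.card S + 1 = Nat.card A := by
    haveI : Fintype ↥A := Fintype.ofFinite _
    have e : Nat.card S = Nat.card {x : ↥A // x ≠ 1} :=
      Nat.card_congr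
        { toFun := fun x => ⟨⟨x.1, x.2.1⟩, fun e => x.2.2 (congrArg Subtype.val e)⟩
          invFun := fun x => ⟨x.1.1, x.1.2, fun e => x.2 (Subtype.ext e)⟩
          left_inv := fun _ => rfl
          right_inv := fun _ => rfl }
    rw [e, Nat.card_eq_fintype_card, Nat.card_eq_fintype_card,
      show Fintype.card {x : ↥A // x ≠ 1} = Fintype.card ↥A - 1 from
        Set.card_ne_eq (1 : ↥A)]
    have := Fintype.card_pos (α := ↥A)
    omega
  obtain ⟨k, hk⟩ := IsPGroup.iff_card.1 h.two_group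
  have hk8 : k < 8 := by
    by_contra hge
    have := Nat.le_of_dvd (by norm_num) h168
    have := Nat.pow_le_pow_right (show 0 < 2 by norm_num) (not_lt.1 hge)
    omega
  have : Nat.card S = 2 ^ k - 1 := by omega
  rw [this] at h168
  rw [hk] at h16
  interval_cases k
  all_goals first | omega | norm_num at h168

/-- the normality statement -/
theorem normal_of_cond : ∀ (n : ℕ), Below.{u} n := by
  intro n
  induction n using Nat.strong_induction_on with
  | _ n IHn =>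
  intro X _ _ hn A h hO
  haveI : Fact (Nat.Prime 2) := ⟨Nat.prime_two⟩
  by_contra hnot
  have IH : Below.{u} (Nat.card X) := fun Y _ _ hY B hB hBO =>
    IHn (Nat.card X) hn Y hY B hB hBO
  have hnc : ∀ a ∈ A, a ≠ 1 → a ∉ center X := fun a ha ha1 hc =>
    hnot (h.normal_of_center hO IH ha ha1 hc)
  have hA : A ≠ ⊥ := fun e => hnot (e ▸ inferInstance)
  -- an automorphism of odd order
  obtain ⟨x, hx, hxo, hxm⟩ : ∃ x ∈ normalizer (A : Set X), Odd (orderOf x) ∧
      ∃ a ∈ A, x * a * x⁻¹ ≠ a := by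
    by_contra hh
    push Not at hh
    obtain ⟨a, ha, ha1, hfix⟩ := h.exists_fixed hA hh
    exact hnc a ha ha1 (h.fixed_central hO ha ha1 hfix)
  have h16 : 16 ≤ Nat.card A :=
    le_trans (Nat.le_mul_of_pos_right 16 Nat.card_pos) (h.fixBound x hx hxo hxm)
  -- centralisers are proper
  have hCne : ∀ a ∈ A, a ≠ 1 → centralizer ({a} : Set X) ≠ ⊤ := fun a ha ha1 e =>
    hnc a ha ha1 (mem_center_of_centralizer_eq_top e)
  have hClt : ∀ a ∈ A, a ≠ 1 → Nat.card ↥(centralizer ({a} : Set X)) < Nat.card X :=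
    fun a ha ha1 => card_lt_of_ne_top (hCne a ha ha1)
  -- the signalizer functor
  set θ : X → Subgroup X := fun a => coreIn (centralizer ({a} : Set X)) with hθ
  obtain ⟨hKodd, -⟩ := S0217.result (p := 2) A h.comm (fun a ha => by rw [pow_two, h.sq a ha])
    (by omega) θ (fun a _ _ => coreIn_le _)
    (fun a _ _ => fun hd => (Nat.not_even_iff_odd.2 (odd_coreIn _)) (even_iff_two_dvd.2 hd))
    (fun a ha _ b hb x hx => coreIn_normal (h.le_centralizer ha hb) hx)
    (fun a _ _ => S0205.result (odd_coreIn _))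
    (fun a ha _ b hb hb1 => h.balance IH ha hb (hClt b hb hb1))
  set K := ⨆ a : {a : X // a ∈ A ∧ a ≠ 1}, θ a with hKdef
  have hKodd' : Odd (Nat.card K) := Nat.not_even_iff_odd.1 fun he => hKodd (even_iff_two_dvd.1 he)
  have hNK : normalizer (A : Set X) ≤ normalizer (K : Set X) := by
    intro m hm
    refine mem_normalizer_fintype fun k hk => ?_
    have hle : K.map (MulAut.conj m).toMonoidHom ≤ K := by
      rw [hKdef, Subgroup.map_iSup]
      refine iSup_le fun a => ?_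
      have hb : m * a.1 * m⁻¹ ∈ A := (mem_normalizer_iff.1 hm a.1).1 a.2.1
      have hb1 : m * a.1 * m⁻¹ ≠ 1 := fun e => a.2.2 (conj_eq_one_iff.1 e)
      refine le_trans ?_ (le_iSup (fun a : {a : X // a ∈ A ∧ a ≠ 1} => θ a) ⟨_, hb, hb1⟩)
      refine le_coreIn ?_ (by
        rw [card_map_of_injective (MulAut.conj m).injective]; exact odd_coreIn _) ?_
      · rintro _ ⟨y, hy, rfl⟩
        rw [mem_centralizer_singleton_iff, MulEquiv.coe_toMonoidHom, MulAut.conj_apply,
          show m * y * m⁻¹ * (m * a.1 * m⁻¹) = m * (y * a.1) * m⁻¹ by group,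
          mem_centralizer_singleton_iff.1 (coreIn_le _ hy)]
        group
      · rintro c hc _ ⟨y, hy, rfl⟩
        have hcm : m⁻¹ * c * m ∈ centralizer ({a.1} : Set X) := by
          rw [mem_centralizer_singleton_iff]
          have := mem_centralizer_singleton_iff.1 hc
          calc m⁻¹ * c * m * a.1 = m⁻¹ * (c * (m * a.1 * m⁻¹)) * m := by group
            _ = _ := by rw [this]; group
        refine ⟨m⁻¹ * c * m * y * (m⁻¹ * c * m)⁻¹, coreIn_normal hcm hy, ?_⟩
        simp only [MulEquiv.coe_toMonoidHom, MulAut.conj_apply]; group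
    exact hle ⟨k, hk, rfl⟩
  obtain ⟨M, hM, hNM, hCM⟩ : ∃ M : Subgroup X, M ≠ ⊤ ∧ normalizer (A : Set X) ≤ M ∧
      ∀ a ∈ A, a ≠ 1 → centralizer ({a} : Set X) ≤ M := by
    have hfr : ∀ a ∈ A, a ≠ 1 → ∀ g ∈ centralizer ({a} : Set X),
        ∃ k ∈ K, k * g ∈ normalizer (A : Set X) := by
      intro a ha ha1 g hg
      obtain ⟨k, hk, hkn⟩ := h.frattini IH (h.le_centralizer ha) (hClt a ha ha1) hg
      exact ⟨k, (le_iSup (fun a : {a : X // a ∈ A ∧ a ≠ 1} => θ a) ⟨a, ha, ha1⟩) hk, hkn⟩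
    by_cases hK0 : K = ⊥
    · refine ⟨normalizer (A : Set X), ?_, le_rfl, fun a ha ha1 g hg => ?_⟩
      · exact fun e => hnot (normalizer_eq_top_iff.1 e)
      · obtain ⟨k, hk, hkn⟩ := hfr a ha ha1 g hg
        rw [hK0, mem_bot] at hk
        rwa [hk, one_mul] at hkn
    · refine ⟨normalizer (K : Set X), ?_, hNK, fun a ha ha1 g hg => ?_⟩
      · intro e
        haveI := normalizer_eq_top_iff.1 e
        exact hK0 (le_bot_iff.1 (hO ▸ Cores.le_oddCore hKodd'))
      · obtain ⟨k, hk, hkn⟩ := hfr a ha ha1 g hg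
        rw [← inv_mul_cancel_left k g]
        exact mul_mem (inv_mem (le_normalizer hk)) (hNK hkn)
  have hAM : A ≤ M := le_normalizer.trans hNM
  have hMlt := card_lt_of_ne_top hM
  -- elements fused outside `M`
  have hout : ∀ a ∈ A, a ≠ 1 → ∀ a₂ ∈ A, a₂ ≠ 1 → ∀ g : X, g * a₂ * g⁻¹ ∉ M →
      ∃ c : X, c * a * c⁻¹ = g * a₂ * g⁻¹ := by
    intro a ha ha1 a₂ ha₂ ha₂1 g hb
    set b := g * a₂ * g⁻¹ with hbdef
    have ha2 : a * a = 1 := h.sq a ha
    have hb2 : b * b = 1 := by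
      rw [hbdef, show g * a₂ * g⁻¹ * (g * a₂ * g⁻¹) = g * (a₂ * a₂) * g⁻¹ by group, h.sq a₂ ha₂]
      simp
    rcases Nat.even_or_odd (orderOf (a * b)) with ⟨q, hq⟩ | hodd
    · exfalso
      set d := a * b with hd
      have hda : a * d * a⁻¹ = d⁻¹ := by
        rw [inv_eq_of_mul_eq_one_right ha2]
        refine eq_inv_of_mul_eq_one_left ?_
        rw [hd, show a * (a * b) * a * (a * b) = (a * a) * b * (a * a) * b by group, ha2]
        simpa using hb2
      have hda' : ∀ j : ℕ, a * d ^ j * a⁻¹ = (d ^ j)⁻¹ := fun j => by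
        rw [← conj_pow, hda, inv_pow]
      have hdd : d ^ q * d ^ q = 1 := by rw [← pow_add, ← hq, pow_orderOf_eq_one]
      have hq0 : 0 < q := by have := orderOf_pos d; omega
      have hi1 : d ^ q ≠ 1 := fun e => by
        have := Nat.le_of_dvd hq0 (orderOf_dvd_of_pow_eq_one e)
        omega
      have hia : Commute (d ^ q) a := by
        have h1 := hda' q
        rw [inv_eq_of_mul_eq_one_right hdd, mul_inv_eq_iff_eq_mul] at h1
        exact h1.symm
      have hib : Commute (d ^ q) b := by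
        have hb' : b = a⁻¹ * d := by rw [hd]; group
        rw [hb']
        exact hia.inv_right.mul_right ((Commute.refl d).pow_left q)
      obtain ⟨w, e, he, hwe⟩ : ∃ w : X, ∃ e, (e = a ∨ e = a₂) ∧ w * e * w⁻¹ = d ^ q * a := by
        rcases Nat.even_or_odd q with ⟨j, hj⟩ | ⟨j, hj⟩
        · refine ⟨d ^ j, a, Or.inl rfl, ?_⟩
          rw [← hda' j, hj, pow_add, show d ^ j * a * (a * d ^ j * a⁻¹) = d ^ j * (a * a) * d ^ j * a⁻¹
            by group, ha2, inv_eq_of_mul_eq_one_right ha2, mul_one]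
        · refine ⟨d ^ (j + 1) * g, a₂, Or.inr rfl, ?_⟩
          have h1 : d ^ (j + 1) * g * a₂ * (d ^ (j + 1) * g)⁻¹ =
              d ^ (j + 1) * b * (d ^ (j + 1))⁻¹ := by rw [hbdef]; group
          rw [h1, ← hda' (j + 1), show b = a⁻¹ * d by rw [hd]; group,
            inv_eq_of_mul_eq_one_right ha2, hj, show 2 * j + 1 = j + (j + 1) by ring]
          calc d ^ (j + 1) * (a * d) * (a * d ^ (j + 1) * a)
              = d ^ (j + 1) * (a * d * a) * d ^ (j + 1) * a := by group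
            _ = d ^ (j + 1) * d⁻¹ * d ^ (j + 1) * a := by
                rw [← hda, inv_eq_of_mul_eq_one_right ha2]
            _ = d ^ (j + (j + 1)) * a := by
                rw [pow_succ, mul_inv_cancel_right, pow_add, pow_succ]
      have heA : e ∈ A := by rcases he with rfl | rfl <;> assumption
      have hAC := h.le_centralizer ha
      have hwC : w * e * w⁻¹ ∈ centralizer ({a} : Set X) := by
        rw [hwe]
        exact mul_mem (mem_centralizer_singleton_iff.2 hia) (hAC ha)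
      obtain ⟨c, hc, hcA⟩ := h.conj_mem_of_subgroup hAC heA hwC
      rw [hwe] at hcA
      have hca : c * a * c⁻¹ = a := by
        rw [mem_centralizer_singleton_iff.1 hc, mul_inv_cancel_right]
      set i' := c * d ^ q * c⁻¹ with hi'
      have hi'A : i' ∈ A := by
        have := mul_mem hcA (inv_mem ha)
        rwa [show c * (d ^ q * a) * c⁻¹ * a⁻¹ = i' by
          conv_lhs => rw [show c * (d ^ q * a) * c⁻¹ = c * d ^ q * c⁻¹ * (c * a * c⁻¹) by group,
            hca, mul_inv_cancel_right]] at this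
      have hbC : c * b * c⁻¹ ∈ M := hCM i' hi'A (fun e => hi1 (conj_eq_one_iff.1 e))
        (mem_centralizer_singleton_iff.2 (by
          rw [hi', show c * b * c⁻¹ * (c * d ^ q * c⁻¹) = c * (b * d ^ q) * c⁻¹ by group,
            ← hib.eq]
          group))
      have hcM : c ∈ M := hCM a ha ha1 hc
      exact hb (by simpa [mul_assoc] using mul_mem (mul_mem (inv_mem hcM) hbC) hcM)
    · obtain ⟨mm, hmm⟩ := H26.exists_conj_of_odd ha2 hb2 hodd
      exact ⟨_, hmm⟩
  -- some class lies in `M`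
  obtain ⟨z, hz, hz1, hzM⟩ : ∃ z ∈ A, z ≠ 1 ∧ ∀ g : X, g * z * g⁻¹ ∈ M := by
    obtain ⟨a₁, ha₁, a₂, ha₂, ha₁1, ha₂1, hne⟩ := h.not_one_class h16
    by_contra hh
    push Not at hh
    obtain ⟨g₂, hg₂⟩ := hh a₂ ha₂ ha₂1
    obtain ⟨c, hc⟩ := hout a₁ ha₁ ha₁1 a₂ ha₂ ha₂1 g₂ hg₂
    refine hne (g₂⁻¹ * c) ?_
    calc g₂⁻¹ * c * a₁ * (g₂⁻¹ * c)⁻¹ = g₂⁻¹ * (c * a₁ * c⁻¹) * g₂ := by group
      _ = a₂ := by rw [hc]; group
  -- its normal closure lies in `A`
  set N := normalClosure ({z} : Set X) with hN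
  haveI : N.Normal := normalClosure_normal
  have hmemN : ∀ g : X, g * z * g⁻¹ ∈ N := fun g =>
    Normal.conj_mem inferInstance z (subset_normalClosure (Set.mem_singleton z)) g
  have hNle : N ≤ A ⊔ coreIn M := by
    rw [hN, normalClosure, closure_le]
    intro y hy
    rw [Group.mem_conjugatesOfSet_iff] at hy
    obtain ⟨w, hw, hy⟩ := hy
    rw [Set.mem_singleton_iff] at hw
    rw [hw] at hy
    obtain ⟨g, rfl⟩ := isConj_iff.1 hy
    obtain ⟨k, hk, hkA⟩ := h.conj_mem_of_subgroup hAM hz (hzM g)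
    have := h.local_normal IH hAM hMlt k⁻¹ (inv_mem hk) _ hkA
    rwa [show k⁻¹ * (k * (g * z * g⁻¹) * k⁻¹) * k⁻¹⁻¹ = g * z * g⁻¹ by group] at this
  have hNM' : N ≤ M := hNle.trans (sup_le hAM (coreIn_le M))
  have hcoreX : ∀ L : Subgroup X, L.Normal → coreIn L = ⊥ := fun L hL => by
    haveI := hL
    haveI : (oddCore ↥L).Characteristic := Cores.pPrimeCore_characteristic
    haveI : (coreIn L).Normal := Cores.map_subtype_normal
    exact le_bot_iff.1 (hO ▸ Cores.le_oddCore (odd_coreIn L))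
  have hint : N ⊓ coreIn M = ⊥ := le_bot_iff.1 (hcoreX N inferInstance ▸
    le_coreIn inf_le_left ((odd_coreIn M).of_dvd_nat (card_dvd_of_le inf_le_right))
      fun g hg y hy => ⟨Normal.conj_mem inferInstance y hy.1 g, coreIn_normal (hNM' hg) hy.2⟩)
  have hNsq : ∀ y ∈ N, y * y = 1 := by
    intro y hy
    obtain ⟨a, ha, k, hk, hye⟩ := exists_mul_of_mem_sup hAM (hNle hy)
    have hai : a⁻¹ = a := inv_eq_of_mul_eq_one_right (h.sq a ha)
    have : y * y ∈ N ⊓ coreIn M := ⟨mul_mem hy hy, by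
      rw [hye, show a * k * (a * k) = (a * k * a⁻¹) * k by rw [hai]; group]
      exact mul_mem (coreIn_normal (hAM ha) hk) hk⟩
    rwa [hint, mem_bot] at this
  have hN2 : IsPGroup 2 N := fun y =>
    ⟨1, Subtype.ext (by rw [pow_one, SubgroupClass.coe_pow, pow_two]; exact hNsq y.1 y.2)⟩
  have hNA : N ≤ A := by
    rw [hN, normalClosure, closure_le]
    intro y hy
    rw [Group.mem_conjugatesOfSet_iff] at hy
    obtain ⟨w, hw, hy⟩ := hy
    rw [Set.mem_singleton_iff] at hw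
    rw [hw] at hy
    obtain ⟨g, rfl⟩ := isConj_iff.1 hy
    exact h.closed (A ⊔ N) (h.two_group.to_sup_of_normal_right hN2) le_sup_left z hz g
      (mem_sup_right (hmemN g))
  -- the centraliser of that subgroup normalises `A`
  haveI : (centralizer (N : Set X)).Normal := Subgroup.normal_centralizer
  have hAC : A ≤ centralizer (N : Set X) := fun a ha =>
    mem_centralizer_iff.2 fun y hy => h.comm y (hNA hy) a ha
  have hCz : centralizer (N : Set X) ≤ centralizer ({z} : Set X) := fun c hc =>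
    mem_centralizer_singleton_iff.2 (mem_centralizer_iff.1 hc z (subset_normalClosure (Set.mem_singleton z))).symm
  have hCN : centralizer (N : Set X) ≤ normalizer (A : Set X) := by
    intro c hc
    refine mem_normalizer_fintype fun a ha => ?_
    have hx : c * a * c⁻¹ ∈ A ⊔ coreIn (centralizer ({z} : Set X)) :=
      h.local_normal IH (h.le_centralizer hz) (hClt z hz hz1) c (hCz hc) a ha
    obtain ⟨a', ha', k, hk, he⟩ := exists_mul_of_mem_sup (h.le_centralizer hz) hx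
    have hkC : k ∈ centralizer (N : Set X) := by
      rw [show k = a'⁻¹ * (c * a * c⁻¹) by rw [he]; group]
      exact mul_mem (inv_mem (hAC ha')) (Normal.conj_mem inferInstance a (hAC ha) c)
    have hk1 : k = 1 := mem_bot.1 (hcoreX (centralizer (N : Set X)) inferInstance ▸
      le_coreIn (K := centralizer (N : Set X) ⊓ coreIn (centralizer ({z} : Set X))) inf_le_left
        ((odd_coreIn _).of_dvd_nat (card_dvd_of_le inf_le_right))
        (fun g hg y hy => ⟨Normal.conj_mem inferInstance y hy.1 g, coreIn_normal (hCz hg) hy.2⟩)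
        ⟨hkC, hk⟩)
    rw [he, hk1, mul_one]
    exact ha'
  refine hnot ⟨fun a ha g => ?_⟩
  have hB : A.map (MulAut.conj g).toMonoidHom ≤ normalizer (A : Set X) := by
    rintro _ ⟨b, hb, rfl⟩
    exact hCN (Normal.conj_mem inferInstance b (hAC hb) g)
  exact h.closed _ ((h.two_group.map _).to_sup_of_normal_right' h.two_group hB) le_sup_right a ha g
    (mem_sup_left ⟨a, ha, rfl⟩)

theorem Cond.normal {X : Type u} [Group X] [Finite X] {A : Subgroup X} (h : Cond A)
    (hO : oddCore X = ⊥) : A.Normal :=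
  normal_of_cond (Nat.card X + 1) X (Nat.lt_succ_self _) A h hO

end Cfsg.Agent.H34.M24Q
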