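import Cfsg.Agent.H34.M24Q.Model
import Cfsg.Agent.H63.M24SylowQuot

/-!
Coordinates on a 2-group isomorphic to a Sylow 2-subgroup of the Mathieu group of degree 24
modulo its centre.
-/

set_option autoImplicit false

namespace Cfsg.Agent.H34.M24Q

open Cfsg Cfsg.Agent.Golay Cfsg.Agent.H63.M24Sylow

/-- coordinates: `rho` on `Q` modulo `A`, `alpha` on `A`, compatible with the tables -/
structure Frame {G : Type*} [Group G] (Q A : Subgroup G) where
  /-- coset coordinate -/
  rho : G → Fin 8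
  /-- vector coordinate -/
  alpha : G → Fin 64
  le : A ≤ Q
  rho_zero : ∀ x ∈ Q, (rho x = 0 ↔ x ∈ A)
  rho_mul : ∀ x ∈ Q, ∀ y ∈ Q, rho (x * y) = rm (rho x) (rho y)
  rho_surj : ∀ d, ∃ x ∈ Q, rho x = d
  alpha_inj : ∀ a ∈ A, ∀ b ∈ A, alpha a = alpha b → a = b
  alpha_surj : ∀ v, ∃ a ∈ A, alpha a = v
  alpha_mul : ∀ a ∈ A, ∀ b ∈ A, alpha (a * b) = vadd (alpha a) (alpha b)
  conj_mem : ∀ x ∈ Q, ∀ a ∈ A, x * a * x⁻¹ ∈ A
  conj : ∀ x ∈ Q, ∀ a ∈ A, alpha (x * a * x⁻¹) = act (rho x) (alpha a)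

/-- the six basis tables -/
def basT (k : ℕ) : ℕ := aGens.getD (k + 1) one

/-- table of a vector -/
def vecT (v : ℕ) : ℕ :=
  ((List.range 6).map fun k => if v.testBit k then basT k else one).foldr tblMul one

theorem check_kernel : ((List.range 64).all fun v => v == 0 ||
    (!tblEq (vecT v) one && !tblEq (vecT v) zT)) = true := by decide +kernel

theorem check_act : ((List.range 8).all fun i => (List.range 6).all fun k =>
    tblEq (tblMul (reps.getD i (0, 0)).1 (tblMul (basT k) (reps.getD i (0, 0)).2))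
        (vecT (actN i (2 ^ k))) ||
      tblEq (tblMul (reps.getD i (0, 0)).1 (tblMul (basT k) (reps.getD i (0, 0)).2))
        (tblMul (vecT (actN i (2 ^ k))) zT)) = true := by decide +kernel

theorem check_rm : ∀ i j : Fin 8, aList.contains (tblMul (reps.getD (rm i j).1 (0, 0)).2
    (tblMul (reps.getD i.1 (0, 0)).1 (reps.getD j.1 (0, 0)).1)) = true := by decide +kernel

theorem check_vec_bits : ∀ v : Fin 64,
    ((List.range 6).map fun k => if v.1.testBit k then 2 ^ k else 0).foldr (· ^^^ ·) 0 = v.1 := by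
  decide +kernel

theorem act_vzero : ∀ d, act d 0 = 0 := by decide +kernel

theorem act_vadd : ∀ d v w, act d (vadd v w) = vadd (act d v) (act d w) := by decide +kernel

theorem basT_mem {k : ℕ} (hk : k < 6) : basT k ∈ aGens := by
  have hlen : aGens.length = 7 := rfl
  rw [basT, List.getD_eq_getElem _ _ (by omega)]
  exact List.getElem_mem _

theorem valid_vec_list : ∀ L : List ℕ, (∀ g ∈ L, validT g = true) →
    validT (L.foldr tblMul one) = true ∧ mkPerm (L.foldr tblMul one) = (L.map mkPerm).prod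
  | [], _ => ⟨one_spec.1, one_spec.2⟩
  | g :: gs, h => by
    obtain ⟨h1, h2⟩ := valid_vec_list gs fun k hk => h k (List.mem_cons_of_mem _ hk)
    have hs := tblMul_spec (h g List.mem_cons_self) h1
    rw [List.foldr_cons, List.map_cons, List.prod_cons, ← h2]
    exact hs

theorem vec_valid (v : ℕ) :
    ∀ g ∈ (List.range 6).map (fun k => if v.testBit k then basT k else one), validT g = true := by
  intro g hg
  obtain ⟨k, hk, rfl⟩ := List.mem_map.1 hg
  split_ifs
  · exact valid_facts.2.2.1 _ (basT_mem (List.mem_range.1 hk))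
  · exact one_spec.1

section quot

variable {X : Type*} [Group X] [Finite X] (φ : X →* Equiv.Perm GolayPt)
variable (hφ : Function.Injective φ) (hr : φ.range = P0)

include hφ hr in
theorem exists_frame_quot :
    Nonempty (Frame (⊤ : Subgroup (X ⧸ Subgroup.center X)) (Aq φ)) := by
  classical
  haveI := (hyp φ hφ hr).normal
  set π := QuotientGroup.mk' (Subgroup.center X)
  haveI : IsMulCommutative ↥(Aq φ) := (hyp φ hφ hr).comm
  letI : CommGroup ↥(Aq φ) := { (Aq φ).toGroup with mul_comm := mul_comm' }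
  have hsq : ∀ a : ↥(Aq φ), a * a = 1 := fun a => by
    have := (elementary φ hφ hr).2 a.1 a.2
    rw [pow_two] at this
    exact Subtype.ext this
  obtain ⟨vo, vz, va, vs, vr, vl⟩ := valid_facts
  have hlift : ∀ g ∈ P0, ∃ x : X, φ x = g := fun g hg => by
    obtain ⟨x, hx⟩ : g ∈ φ.range := hr ▸ hg
    exact ⟨x, hx⟩
  have hbl : ∀ k, ∃ x : X, k < 6 → φ x = mkPerm (basT k) := fun k => by
    by_cases hk : k < 6
    · obtain ⟨x, hx⟩ := hlift _ (At_le (Subgroup.subset_closure ⟨_, basT_mem hk, rfl⟩))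
      exact ⟨x, fun _ => hx⟩
    · exact ⟨1, fun h => absurd h hk⟩
  choose bx hbx using hbl
  have hbA : ∀ k, k < 6 → π (bx k) ∈ Aq φ := fun k hk =>
    (mem_Aq φ hφ hr).2 (by rw [hbx k hk]; exact Subgroup.subset_closure ⟨_, basT_mem hk, rfl⟩)
  let b : ℕ → ↥(Aq φ) := fun k => if hk : k < 6 then ⟨π (bx k), hbA k hk⟩ else 1
  let β : Fin 64 → ↥(Aq φ) := fun v =>
    ((List.range 6).map fun k => if v.1.testBit k then b k else 1).prod
  -- the vector map is additive
  have hβ : ∀ v w, β (vadd v w) = β v * β w := by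
    intro v w
    simp only [β]
    refine Eq.trans ?_ List.prod_map_mul
    refine congrArg List.prod (List.map_congr_left fun k _ => ?_)
    simp only [vadd, Nat.testBit_xor]
    cases v.1.testBit k <;> cases w.1.testBit k <;> simp [hsq]
  -- the table of a vector
  have hβx : ∀ v : Fin 64, ∃ x : X, π x = ((β v : ↥(Aq φ)) : X ⧸ _) ∧ φ x = mkPerm (vecT v.1) := by
    intro v
    refine ⟨((List.range 6).map fun k => if v.1.testBit k then bx k else 1).prod, ?_, ?_⟩
    · rw [map_list_prod, SubmonoidClass.coe_list_prod, List.map_map, List.map_map]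
      refine congrArg List.prod (List.map_congr_left fun k hk => ?_)
      have hk6 : k < 6 := List.mem_range.1 hk
      simp only [Function.comp_apply, b, dif_pos hk6]
      split_ifs <;> simp
    · rw [vecT, (valid_vec_list _ (vec_valid v.1)).2, map_list_prod, List.map_map, List.map_map]
      refine congrArg List.prod (List.map_congr_left fun k hk => ?_)
      have hk6 : k < 6 := List.mem_range.1 hk
      simp only [Function.comp_apply]
      split_ifs
      · exact hbx k hk6
      · rw [map_one, one_spec.2]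
  have hzero : ∀ v, β v = 1 → v = 0 := by
    intro v hv
    obtain ⟨x, hx1, hx2⟩ := hβx v
    rw [hv] at hx1
    have hc := (mem_centre_iff φ hφ hr).1 ((QuotientGroup.eq_one_iff x).1 hx1)
    rw [hx2] at hc
    have h := check_kernel
    simp only [List.all_eq_true, List.mem_range, Bool.or_eq_true, beq_iff_eq, Bool.and_eq_true,
      Bool.not_eq_true'] at h
    rcases h v.1 v.2 with h0 | ⟨h1, h2⟩
    · exact Fin.ext h0
    have hv' := (valid_vec_list _ (vec_valid v.1)).1
    have tb : ∀ {a c : ℕ}, validT a = true → validT c = true →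
        (mkPerm a : Equiv.Perm GolayPt) = mkPerm c → tblEq a c = true := by
      intro a c ha hc' he
      rw [tblEq, List.all_eq_true]
      intro i hi
      rw [beq_iff_eq, ← idx_pt i (List.mem_range.1 hi), ← idx_mkPerm ha, ← idx_mkPerm hc', he]
    rcases hc with hc | hc
    · rw [show tblEq (vecT v.1) one = true from tb hv' vo (hc.trans one_spec.2.symm)] at h1
      exact absurd h1 (by simp)
    · rw [show tblEq (vecT v.1) zT = true from tb hv' vz hc] at h2
      exact absurd h2 (by simp)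
  have hβ0 : β 0 = 1 := by
    have := hβ 0 0
    rwa [show vadd (0 : Fin 64) 0 = 0 by decide +kernel, hsq] at this
  have hinj : Function.Injective β := by
    intro v w h
    have h1 : β (vadd v w) = 1 := by rw [hβ, h, hsq]
    have h2 := congrArg Fin.val (hzero _ h1)
    simp only [vadd, Fin.val_zero] at h2
    exact Fin.ext (by simpa using congrArg (· ^^^ w.1) h2)
  have hbij : Function.Bijective β :=
    (Nat.bijective_iff_injective_and_card β).2
      ⟨hinj, by rw [Nat.card_fin, (hyp φ hφ hr).cardA]⟩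
  let βe := Equiv.ofBijective β hbij
  -- cosets
  have hcos : ∀ y : X ⧸ Subgroup.center X, ∃ i : Fin 8, ∃ x : X, π x = y ∧
      ∃ a ∈ At, φ x = rp i.1 * a := by
    intro y
    obtain ⟨x, rfl⟩ := QuotientGroup.mk'_surjective _ y
    obtain ⟨i, hi, a, ha, he⟩ := mem_P0_iff.1 (im_mem φ hr x)
    exact ⟨⟨i, hi⟩, x, rfl, a, ha, he⟩
  choose rho hrho using hcos
  have huniq : ∀ (x : X) (i : Fin 8), (∃ a ∈ At, φ x = rp i.1 * a) → rho (π x) = i := by
    intro x i hi
    obtain ⟨a, ha, he⟩ := hi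
    obtain ⟨x', hx', a', ha', he'⟩ := hrho (π x)
    obtain ⟨c, hc, hce⟩ := (QuotientGroup.mk'_eq_mk' _).1 hx'
    have hcA : φ c ∈ At := by
      rcases (mem_centre_iff φ hφ hr).1 hc with h | h <;> rw [h]
      exacts [one_mem _, zP_mem]
    refine Fin.ext (rep_coset (Fin.is_lt _) i.2 ?_)
    have : rp (rho (π x)).1 * a' * φ c = rp i.1 * a := by rw [← he, ← he', ← map_mul, hce]
    have h2 : (rp (rho (π x)).1)⁻¹ * rp i.1 = a' * φ c * a⁻¹ := by
      rw [inv_mul_eq_iff_eq_mul, ← mul_assoc, ← mul_assoc, this, mul_inv_cancel_right]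
    rw [h2]
    exact mul_mem (mul_mem ha' hcA) (inv_mem ha)
  have hrp0 : rp 0 = 1 := by
    rw [rp, show (reps.getD 0 (0, 0)).1 = one from rfl, one_spec.2]
  -- products of representatives
  have hrm : ∀ i j : Fin 8, (rp (rm i j).1)⁻¹ * (rp i.1 * rp j.1) ∈ At := by
    intro i j
    have h := List.contains_iff_mem.1 (check_rm i j)
    have hij := tblMul_spec (vr _ (rep_mem i.2)).1 (vr _ (rep_mem j.2)).1
    have hall := tblMul_spec (vr _ (rep_mem (rm i j).2)).2 hij.1
    rw [rp, rp, rp, ← rep_inv (rep_mem (rm i j).2), ← hij.2, ← hall.2]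
    exact mem_At_iff.2 ⟨_, h, rfl⟩
  have hconjb : ∀ (i : Fin 8) (x : X), φ x = rp i.1 → ∀ k, k < 6 → ∀ v : Fin 64, v.1 = 2 ^ k →
      π x * (b k : X ⧸ _) * (π x)⁻¹ = (β (act i v) : X ⧸ _) := by
    intro i x hx k hk v hv
    obtain ⟨y, hy1, hy2⟩ := hβx (act i v)
    have hb : (b k : X ⧸ _) = π (bx k) := by simp only [b, dif_pos hk]
    rw [hb, ← hy1, ← map_inv, ← map_mul, ← map_mul, eq_comm, QuotientGroup.mk'_eq_mk']
    have hin := tblMul_spec (va _ (basT_mem hk)) (vr _ (rep_mem i.2)).2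
    have hout := tblMul_spec (vr _ (rep_mem i.2)).1 hin.1
    have hval : φ (x * bx k * x⁻¹) = mkPerm (tblMul (reps.getD i.1 (0, 0)).1
        (tblMul (basT k) (reps.getD i.1 (0, 0)).2)) := by
      rw [hout.2, hin.2, rep_inv (rep_mem i.2), map_mul, map_mul, map_inv, hx, hbx k hk, rp,
        mul_assoc]
    have hvv : (act i v).1 = actN i.1 (2 ^ k) := by rw [← hv]; rfl
    have hv' : validT (vecT (act i v).1) = true := (valid_vec_list _ (vec_valid (act i v).1)).1
    have h := check_act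
    simp only [List.all_eq_true, List.mem_range, Bool.or_eq_true] at h
    specialize h i.1 i.2 k hk
    rw [← hvv] at h
    rcases h with h | h
    · refine ⟨1, one_mem _, hφ ?_⟩
      rw [mul_one, hval, hy2]
      exact (mkPerm_eq_of_tblEq hout.1 hv' h).symm
    · obtain ⟨c, hc⟩ := hlift zP (At_le zP_mem)
      refine ⟨c, (mem_centre_iff φ hφ hr).2 (Or.inr hc), hφ ?_⟩
      have hz := tblMul_spec hv' vz
      rw [map_mul, hval, hy2, hc, zP, ← hz.2]
      exact (mkPerm_eq_of_tblEq hout.1 hz.1 h).symm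
  have hconj : ∀ (i : Fin 8) (x : X), φ x = rp i.1 → ∀ v : Fin 64,
      π x * (β v : X ⧸ _) * (π x)⁻¹ = (β (act i v) : X ⧸ _) := by
    intro i x hx v
    have key : ∀ L : List ℕ, (∀ k ∈ L, k < 6) → ∀ w : Fin 64,
        w.1 = (L.map fun k => if v.1.testBit k then 2 ^ k else 0).foldr (· ^^^ ·) 0 →
        β w = (L.map fun k => if v.1.testBit k then b k else 1).prod →
        π x * (β w : X ⧸ _) * (π x)⁻¹ = (β (act i w) : X ⧸ _) := by
      intro L
      induction L with
      | nil =>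
        intro _ w hw _
        obtain rfl : w = 0 := Fin.ext hw
        rw [act_vzero, hβ0]
        simp
      | cons k L ih =>
        intro hL w hw hwb
        have hk : k < 6 := hL k List.mem_cons_self
        have hb2 : ∀ u : Fin 64, u.1 = 2 ^ k → β u = b k := by
          intro u hu
          simp only [β]
          rw [List.prod_map_eq_pow_single k]
          · rw [List.count_eq_one_of_mem List.nodup_range (List.mem_range.2 hk), pow_one, hu,
              Nat.testBit_two_pow_self, if_pos rfl]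
          · intro k' hk' _
            rw [hu, Nat.testBit_two_pow_of_ne (Ne.symm hk'), if_neg (by simp)]
        rw [List.map_cons, List.foldr_cons] at hw
        rw [List.map_cons, List.prod_cons] at hwb
        by_cases hb : v.1.testBit k
        · rw [if_pos hb] at hw hwb
          have h64 : 2 ^ k < 64 := lt_of_lt_of_le (Nat.pow_lt_pow_right (by norm_num) hk) le_rfl
          set u : Fin 64 := ⟨2 ^ k, h64⟩
          set w' := vadd u w
          have hw' : w'.1 = (L.map fun k => if v.1.testBit k then 2 ^ k else 0).foldr (· ^^^ ·) 0 := by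
            simp only [w', vadd, u, hw, ← Nat.xor_assoc, Nat.xor_self, Nat.zero_xor]
          have hw'b : β w' = (L.map fun k => if v.1.testBit k then b k else 1).prod := by
            rw [hβ, hb2 u rfl, hwb, ← mul_assoc, hsq, one_mul]
          have hww : w = vadd u w' := Fin.ext (by
            simp only [w', vadd, ← Nat.xor_assoc, Nat.xor_self, Nat.zero_xor])
          have := ih (fun j hj => hL j (List.mem_cons_of_mem _ hj)) w' hw' hw'b
          have h1 := hconjb i x hx k hk u rfl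
          rw [← hb2 u rfl] at h1
          have h2 : (β w : X ⧸ Subgroup.center X) = (β u : X ⧸ _) * (β w' : X ⧸ _) := by
            rw [← Subgroup.coe_mul, ← hβ, ← hww]
          have h3 : (β (act i w) : X ⧸ Subgroup.center X) =
              (β (act i u) : X ⧸ _) * (β (act i w') : X ⧸ _) := by
            rw [← Subgroup.coe_mul, ← hβ, ← act_vadd, ← hww]
          rw [h2, h3, ← this, ← h1]
          group
        · rw [if_neg hb, Nat.zero_xor] at hw
          rw [if_neg hb, one_mul] at hwb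
          exact ih (fun j hj => hL j (List.mem_cons_of_mem _ hj)) w hw hwb
    exact key (List.range 6) (fun k hk => List.mem_range.1 hk) v (check_vec_bits v).symm rfl
  have halpha : ∀ (a : X ⧸ Subgroup.center X) (ha : a ∈ Aq φ), ∃ v, (β v : X ⧸ _) = a :=
    fun a ha => ⟨βe.symm ⟨a, ha⟩, congrArg Subtype.val (βe.apply_symm_apply ⟨a, ha⟩)⟩
  let alpha : (X ⧸ Subgroup.center X) → Fin 64 := fun a =>
    if ha : a ∈ Aq φ then (halpha a ha).choose else 0
  have hal : ∀ a ∈ Aq φ, (β (alpha a) : X ⧸ _) = a := fun a ha => by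
    simp only [alpha, dif_pos ha]; exact (halpha a ha).choose_spec
  have halv : ∀ v, alpha (β v : X ⧸ _) = v := fun v =>
    hinj (Subtype.ext (hal _ (β v).2))
  refine ⟨{ rho := rho, alpha := alpha, le := le_top, rho_zero := ?_, rho_mul := ?_,
            rho_surj := ?_, alpha_inj := ?_, alpha_surj := ?_, alpha_mul := ?_,
            conj_mem := fun x _ a ha => (hyp φ hφ hr).normal.conj_mem a ha x, conj := ?_ }⟩
  · intro y _
    obtain ⟨x, rfl, a, ha, he⟩ := hrho y
    rw [mem_Aq φ hφ hr]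
    constructor
    · intro h
      rw [he, h, Fin.val_zero, hrp0, one_mul]
      exact ha
    · intro h
      exact huniq x 0 ⟨φ x, h, by rw [Fin.val_zero, hrp0, one_mul]⟩
  · intro y _ y' _
    obtain ⟨x, hx, a, ha, he⟩ := hrho y
    obtain ⟨x', hx', a', ha', he'⟩ := hrho y'
    set i := rho y
    set j := rho y'
    rw [← hx, ← hx', ← map_mul]
    refine huniq _ _ ⟨(rp (rm i j).1)⁻¹ * φ (x * x'), ?_, by group⟩
    have : (rp (rm i j).1)⁻¹ * φ (x * x') =
        ((rp (rm i j).1)⁻¹ * (rp i.1 * rp j.1)) * ((rp j.1)⁻¹ * a * rp j.1) * a' := by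
      rw [map_mul, he, he']; group
    rw [this]
    exact mul_mem (mul_mem (hrm i j) (rep_normalizes (rep_mem j.2) ha)) ha'
  · intro d
    obtain ⟨x, hx⟩ := hlift _ (rep_P0 (rep_mem d.2))
    exact ⟨π x, trivial, huniq x d ⟨1, one_mem _, by rw [mul_one]; exact hx⟩⟩
  · intro a ha c hc h
    rw [← hal a ha, ← hal c hc, h]
  · exact fun v => ⟨_, (β v).2, halv v⟩
  · intro a ha c hc
    have : a * c = ((β (vadd (alpha a) (alpha c)) : ↥(Aq φ)) : X ⧸ _) := by
      rw [hβ, Subgroup.coe_mul, hal a ha, hal c hc]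
    rw [this, halv]
  · intro y _ a ha
    obtain ⟨x, hx, c, hc, he⟩ := hrho y
    obtain ⟨x₀, hx₀⟩ := hlift _ (rep_P0 (rep_mem (rho y).2))
    have hcA : π (x₀⁻¹ * x) ∈ Aq φ := by
      rw [mem_Aq φ hφ hr, map_mul, map_inv, hx₀, he, ← rp, inv_mul_cancel_left]
      exact hc
    have hcomm : π (x₀⁻¹ * x) * a * (π (x₀⁻¹ * x))⁻¹ = a := by
      have := congrArg Subtype.val (mul_comm' (⟨_, hcA⟩ : ↥(Aq φ)) ⟨a, ha⟩)
      simp only [Subgroup.coe_mul] at this
      rw [this, mul_inv_cancel_right]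
    have e : y = π x₀ * π (x₀⁻¹ * x) := by rw [← map_mul, mul_inv_cancel_left, hx]
    have : y * a * y⁻¹ = π x₀ * (π (x₀⁻¹ * x) * a * (π (x₀⁻¹ * x))⁻¹) * (π x₀)⁻¹ := by
      rw [e]; group
    rw [this, hcomm]
    conv_lhs => rw [← hal a ha, hconj (rho y) x₀ hx₀]
    exact halv _

end quot

/-- A Sylow 2-subgroup of the Mathieu group of degree 24 maps isomorphically onto `P0`. -/
theorem exists_embedding (P : Sylow 2 ↥Cfsg.M24) :
    ∃ φ : ↥(P : Subgroup ↥Cfsg.M24) →* Equiv.Perm GolayPt,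
      Function.Injective φ ∧ φ.range = P0 := by
  classical
  haveI : Fact (Nat.Prime 2) := ⟨Nat.prime_two⟩
  let Q0 : Subgroup ↥Cfsg.M24 := P0.subgroupOf Cfsg.M24
  have hQ0 : Nat.card Q0 = 2 ^ 10 := by
    rw [Nat.card_congr (Subgroup.subgroupOfEquivOfLe P0_le).toEquiv, card_P0]
    norm_num
  obtain ⟨Q, hQ⟩ := (IsPGroup.of_card hQ0).exists_le_sylow
  have hQc : Nat.card (Q : Subgroup ↥Cfsg.M24) ≤ 2 ^ 10 := by
    obtain ⟨n, hn⟩ := IsPGroup.iff_card.1 Q.isPGroup'
    have hd := Subgroup.card_subgroup_dvd_card (Q : Subgroup ↥Cfsg.M24)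
    rw [hn, Cfsg.Agent.Golay.card_M24] at hd
    rw [hn]
    refine Nat.pow_le_pow_right (by norm_num) ?_
    by_contra h
    exact absurd ((pow_dvd_pow 2 (show 11 ≤ n by omega)).trans hd) (by norm_num)
  have hQe : Q0 = (Q : Subgroup ↥Cfsg.M24) :=
    Subgroup.eq_of_le_of_card_ge hQ (by rw [hQ0]; exact hQc)
  let e : ↥(P : Subgroup ↥Cfsg.M24) ≃* ↥P0 :=
    ((Sylow.equiv P Q).trans (MulEquiv.subgroupCongr hQe.symm)).trans
      (Subgroup.subgroupOfEquivOfLe P0_le)
  refine ⟨P0.subtype.comp e.toMonoidHom, Subtype.val_injective.comp e.injective, ?_⟩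
  ext x
  exact ⟨fun ⟨y, hy⟩ => hy ▸ (e y).2, fun hx => ⟨e.symm ⟨x, hx⟩, by
    show ((e (e.symm ⟨x, hx⟩)) : Equiv.Perm _) = x
    rw [e.apply_symm_apply]⟩⟩

/-- A group isomorphic to the Sylow 2-subgroup of the Mathieu group of degree 24 modulo its centre
has coordinates with respect to each abelian subgroup of order 64. -/
theorem exists_frame {G : Type*} [Group G] (P : Sylow 2 ↥Cfsg.M24) (Q A : Subgroup G)
    (hQ : Nonempty (↥Q ≃* (↥(P : Subgroup ↥Cfsg.M24) ⧸
      Subgroup.center ↥(P : Subgroup ↥Cfsg.M24))))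
    (hA : A ≤ Q) (hAc : IsMulCommutative ↥A) (hA64 : Nat.card ↥A = 64) :
    Nonempty (Frame Q A) := by
  classical
  haveI : Fact (Nat.Prime 2) := ⟨Nat.prime_two⟩
  obtain ⟨e⟩ := hQ
  obtain ⟨φ, hφ, hr⟩ := exists_embedding P
  obtain ⟨F⟩ := exists_frame_quot φ hφ hr
  let B : Subgroup (↥(P : Subgroup ↥Cfsg.M24) ⧸ Subgroup.center ↥(P : Subgroup ↥Cfsg.M24)) :=
    (A.subgroupOf Q).map e.toMonoidHom
  have hAq : B = Aq φ := by
    haveI : IsMulCommutative ↥(A.subgroupOf Q) :=
      ⟨⟨fun a b => Subtype.ext (Subtype.ext (setLike_mul_comm (s := A) a.2 b.2))⟩⟩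
    haveI : IsMulCommutative ↥B := Subgroup.map_isMulCommutative _ _
    refine H63.IndexEight.unique (hyp φ hφ hr) B ?_
    rw [Subgroup.card_map_of_injective e.injective,
      Nat.card_congr (Subgroup.subgroupOfEquivOfLe hA).toEquiv, hA64]
  have mem : ∀ (x : G) (hx : x ∈ Q), x ∈ A ↔ e ⟨x, hx⟩ ∈ Aq φ := by
    intro x hx
    rw [← hAq]
    constructor
    · intro h; exact ⟨⟨x, hx⟩, h, rfl⟩
    · rintro ⟨y, hy, hye⟩
      rw [e.injective hye] at hy
      exact hy
  let rho : G → Fin 8 := fun x => if hx : x ∈ Q then F.rho (e ⟨x, hx⟩) else 0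
  let alpha : G → Fin 64 := fun x => if hx : x ∈ Q then F.alpha (e ⟨x, hx⟩) else 0
  have rq : ∀ (x : G) (hx : x ∈ Q), rho x = F.rho (e ⟨x, hx⟩) := fun x hx => dif_pos hx
  have aq : ∀ (x : G) (hx : x ∈ Q), alpha x = F.alpha (e ⟨x, hx⟩) := fun x hx => dif_pos hx
  have cm : ∀ x ∈ Q, ∀ a ∈ A, x * a * x⁻¹ ∈ A := by
    intro x hx a ha
    rw [mem _ (mul_mem (mul_mem hx (hA ha)) (inv_mem hx))]
    have : e ⟨x * a * x⁻¹, mul_mem (mul_mem hx (hA ha)) (inv_mem hx)⟩ =
        e ⟨x, hx⟩ * e ⟨a, hA ha⟩ * (e ⟨x, hx⟩)⁻¹ := by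
      rw [← map_inv, ← map_mul, ← map_mul]; rfl
    rw [this]
    exact F.conj_mem _ trivial _ ((mem a (hA ha)).1 ha)
  refine ⟨{ rho := rho, alpha := alpha, le := hA, conj_mem := cm, rho_zero := ?_, rho_mul := ?_,
            rho_surj := ?_, alpha_inj := ?_, alpha_surj := ?_, alpha_mul := ?_, conj := ?_ }⟩
  · intro x hx
    rw [rq x hx, mem x hx]
    exact F.rho_zero _ trivial
  · intro x hx y hy
    rw [rq x hx, rq y hy, rq _ (mul_mem hx hy),
      show (⟨x * y, mul_mem hx hy⟩ : ↥Q) = ⟨x, hx⟩ * ⟨y, hy⟩ from rfl, map_mul]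
    exact F.rho_mul _ trivial _ trivial
  · intro d
    obtain ⟨y, -, hy⟩ := F.rho_surj d
    exact ⟨(e.symm y).1, (e.symm y).2, by rw [rq _ (e.symm y).2]; simp [hy]⟩
  · intro a ha b hb h
    rw [aq a (hA ha), aq b (hA hb)] at h
    exact congrArg Subtype.val (e.injective
      (F.alpha_inj _ ((mem a (hA ha)).1 ha) _ ((mem b (hA hb)).1 hb) h))
  · intro v
    obtain ⟨y, hy, hyv⟩ := F.alpha_surj v
    refine ⟨(e.symm y).1, (mem _ (e.symm y).2).2 (by simp [hy]), ?_⟩
    rw [aq _ (e.symm y).2]; simp [hyv]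
  · intro a ha b hb
    rw [aq a (hA ha), aq b (hA hb), aq _ (hA (mul_mem ha hb)),
      show (⟨a * b, hA (mul_mem ha hb)⟩ : ↥Q) = ⟨a, hA ha⟩ * ⟨b, hA hb⟩ from rfl, map_mul]
    exact F.alpha_mul _ ((mem a (hA ha)).1 ha) _ ((mem b (hA hb)).1 hb)
  · intro x hx a ha
    rw [aq a (hA ha), rq x hx, aq _ (hA (cm x hx a ha)),
      show (⟨x * a * x⁻¹, hA (cm x hx a ha)⟩ : ↥Q) = ⟨x, hx⟩ * ⟨a, hA ha⟩ * (⟨x, hx⟩)⁻¹ from rfl,
      map_mul, map_mul, map_inv]
    exact F.conj _ trivial _ ((mem a (hA ha)).1 ha)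

end Cfsg.Agent.H34.M24Q
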