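import Mathlib

/-!
The action of the Sylow 2-subgroup of the Mathieu group of degree 24, modulo its centre, on its
abelian subgroup of order 64, as tables, with the finite facts about it that are used.
-/

set_option autoImplicit false

namespace Cfsg.Agent.H34.M24Q

/-- packed table of the action of each of the eight cosets -/
def actTab : List ℕ :=
  [39392078757191557952714343944915560488424390381760365930566598193007564623154681709773698286566728461254900444831808,
   33138402754979624122976007007449742760586368526600462466543178644790530952050974363702180368982341825194591016198208,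
   33138254760674306169113242269287739211173358482389160163046864270820074082591368825105848335883186913499233837920320,
   38786042004669330481005232406327010846143061313312945265384620418802401083506731208497582069021678372845830065893440,
   39391930762886239998851579206690404782006963434887317253560351644182983565519013029049376602219506796070028423213120,
   38785894082609218930829976950628340115917774933971543384205344174255615470934259761272307950660582943663778035408960,
   32532366002457396651266895468924345275309456360814788174869538860871774359648967539827186345794646090405744162123840,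
   32532218080397285101091640013288826702088586884135132667200194791179112935252559234729901878681617414713206974980160]

/-- packed multiplication table of the eight cosets -/
def rmTab : ℕ := 414246512082552365981711340858613784238999399816381515400

/-- the action, on natural numbers -/
def actN (d v : ℕ) : ℕ := (actTab.getD d 0 >>> (6 * v)) % 64

/-- the action of coset `d` on the six-bit vector `v` -/
def act (d : Fin 8) (v : Fin 64) : Fin 64 :=
  ⟨actN d.1 v.1, Nat.mod_lt _ (by norm_num)⟩

/-- product of cosets -/
def rm (a b : Fin 8) : Fin 8 :=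
  ⟨(rmTab >>> (3 * (8 * a.1 + b.1))) % 8, Nat.mod_lt _ (by norm_num)⟩

/-- addition of six-bit vectors -/
def vadd (a b : Fin 64) : Fin 64 := ⟨a.1 ^^^ b.1, Nat.xor_lt_two_pow (n := 6) a.2 b.2⟩

/-- the vectors fixed by a coset -/
def fixF (d : Fin 8) : Finset (Fin 64) := Finset.univ.filter fun v => act d v = v

/-- displacement -/
def disp (d : Fin 8) (v : Fin 64) : Fin 64 := vadd v (act d v)

/-- the four vectors fixed by all cosets -/
def zSet : List (Fin 64) := [0, 1, 8, 9]

/-- the first four group -/
def fourOne : List (Fin 8) := [0, 1, 5, 7]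

/-- the second four group -/
def fourTwo : List (Fin 8) := [0, 3, 4, 5]

/-- dihedral coordinates: rotation `2`, reflection `1` -/
def ofDihedral : DihedralGroup 4 → Fin 8
  | .r i => ![0, 2, 5, 6] i
  | .sr i => ![1, 4, 7, 3] i

theorem rm_zero : ∀ a, rm 0 a = a ∧ rm a 0 = a := by decide +kernel

theorem act_zero : ∀ v, act 0 v = v := by decide +kernel

theorem act_rm : ∀ a b v, act (rm a b) v = act a (act b v) := by decide +kernel

theorem rm_left_cancel : ∀ a b c, rm a b = rm a c → b = c := by decide +kernel

theorem act_faithful : ∀ d, (∀ v, act d v = v) → d = 0 := by decide +kernel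

theorem card_fix_involution : ∀ d, d ≠ 0 → rm d d = 0 → (fixF d).card = 16 := by decide +kernel

theorem card_fix_four : ∀ d, rm d d ≠ 0 → (fixF d).card = 4 := by decide +kernel

theorem card_fix_pair : ∀ a b, a ≠ 0 → b ≠ 0 → a ≠ b → rm a a = 0 → rm b b = 0 →
    rm a b = rm b a → (fixF a ∩ fixF b).card = 8 := by decide +kernel

theorem quad : ∀ a b v, rm a a = 0 → rm b b = 0 → rm a b = rm b a →
    act b (disp a v) = disp a v := by decide +kernel

theorem three_commuting : ∀ a b c, a ≠ 0 → b ≠ 0 → a ≠ b → rm a a = 0 → rm b b = 0 → rm c c = 0 →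
    rm a b = rm b a → rm a c = rm c a → rm b c = rm c b →
    c = 0 ∨ c = a ∨ c = b ∨ c = rm a b := by decide +kernel

/-- Two independent fixed vectors of an involution: either they span all displacements, or their
common stabiliser in the centraliser has order at most 4, with a displacement in the span in case
of equality. -/
theorem pair_stab : ∀ r, r ≠ 0 → rm r r = 0 → ∀ e₁ ∈ fixF r, ∀ e₂ ∈ fixF r, e₁ ≠ 0 → e₂ ≠ 0 →
    e₁ ≠ e₂ → (∀ v, disp r v ∈ [0, e₁, e₂, vadd e₁ e₂]) ∨
    ((Finset.univ.filter fun d => rm d r = rm r d ∧ act d e₁ = e₁ ∧ act d e₂ = e₂).card ≤ 4 ∧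
      ((Finset.univ.filter fun d => rm d r = rm r d ∧ act d e₁ = e₁ ∧ act d e₂ = e₂).card = 4 →
        ∃ v, disp r v ≠ 0 ∧ disp r v ∈ [0, e₁, e₂, vadd e₁ e₂])) := by decide +kernel

theorem sum_four : ∀ d v,
    vadd (vadd v (act d v)) (vadd (act d (act d v)) (act d (act d (act d v)))) = 0 := by
  decide +kernel

theorem five_central : ∀ d, rm 5 d = rm d 5 := by decide +kernel

theorem five_sq : rm 5 5 = 0 ∧ rm 2 2 = 5 ∧ rm 1 1 = 0 ∧ rm 3 3 = 0 := by decide +kernel

theorem mem_zSet_iff : ∀ v, v ∈ zSet ↔ ∀ d, act d v = v := by decide +kernel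

theorem disp_five_mem : ∀ v, disp 5 v ∈ zSet := by decide +kernel

theorem disp_fix_five : ∀ d v, act 5 (disp d v) = disp d v := by decide +kernel

theorem disp_of_fix_five : ∀ d v, act 5 v = v → disp d v ∈ zSet := by decide +kernel

theorem fixF_five_split : ∀ v, act 5 v = v → ∃ x, (act 1 x = x ∧ act 5 x = x) ∧
    (act 3 (vadd v x) = vadd v x ∧ act 5 (vadd v x) = vadd v x) := by decide +kernel

theorem fourOne_coset : ∀ x y, act 1 x = x → act 5 x = x → act 1 y = y → act 5 y = y →
    x ∉ zSet → y ∉ zSet → vadd x y ∈ zSet := by decide +kernel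

theorem fourTwo_coset : ∀ x y, act 3 x = x → act 5 x = x → act 3 y = y → act 5 y = y →
    x ∉ zSet → y ∉ zSet → vadd x y ∈ zSet := by decide +kernel

theorem fourOne_inter : ∀ v, ((∃ x, disp 1 x = v) ∧ (∃ x, disp 5 x = v) ∧ (∃ x, disp 7 x = v)) ↔
    (v = 0 ∨ v = 8) := by decide +kernel

theorem fourTwo_inter : ∀ v, ((∃ x, disp 3 x = v) ∧ (∃ x, disp 5 x = v) ∧ (∃ x, disp 4 x = v)) ↔
    (v = 0 ∨ v = 1) := by decide +kernel

theorem four_cases : ∀ a b, a ≠ 0 → b ≠ 0 → a ≠ b → rm a a = 0 → rm b b = 0 → rm a b = rm b a →
    (a ∈ fourOne ∧ b ∈ fourOne) ∨ (a ∈ fourTwo ∧ b ∈ fourTwo) := by decide +kernel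

theorem four_pair : ∀ a b, a ≠ 0 → b ≠ 0 → a ≠ b → rm a a = 0 → rm b b = 0 → rm a b = rm b a →
    ((∀ v, (act a v = v ∧ act b v = v) ↔ (act 1 v = v ∧ act 5 v = v)) ∧
      (∀ v, (∃ x, disp a x = v) → act 1 v = v ∧ act 5 v = v)) ∨
    ((∀ v, (act a v = v ∧ act b v = v) ↔ (act 3 v = v ∧ act 5 v = v)) ∧
      (∀ v, (∃ x, disp a x = v) → act 3 v = v ∧ act 5 v = v)) := by decide +kernel

theorem ofDihedral_mul : ∀ a b, ofDihedral (a * b) = rm (ofDihedral a) (ofDihedral b) := by
  decide +kernel

theorem ofDihedral_injective : ∀ a b, ofDihedral a = ofDihedral b → a = b := by decide +kernel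

theorem ofDihedral_surjective : ∀ d, ∃ a, ofDihedral a = d := by decide +kernel

end Cfsg.Agent.H34.M24Q
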